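import Cfsg.Agent.Lib.Pres.Carm

/-!
# `A_{p+2}` has a presentation with 2 generators and 4 relations
-/

set_option autoImplicit false

namespace H40

theorem conj_mem_of_closure {J : Type*} [Group J] (T : Set J) (K : Subgroup J) (g : J)
    (h : ∀ t ∈ T, g * t * g⁻¹ ∈ K) : ∀ n ∈ Subgroup.closure T, g * n * g⁻¹ ∈ K := by
  intro n hn
  have : Subgroup.closure T ≤ K.comap (MulAut.conj g).toMonoidHom := by
    rw [Subgroup.closure_le]; intro t ht; exact h t ht
  exact this hn

theorem normal_of_gens {J : Type*} [Group J] (N : Subgroup J) [Finite N] (S : Set J)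
    (hS : Subgroup.closure S = ⊤) (h : ∀ g ∈ S, ∀ n ∈ N, g * n * g⁻¹ ∈ N) : N.Normal := by
  rw [← Subgroup.normalizer_eq_top_iff, eq_top_iff, ← hS, Subgroup.closure_le]
  intro g hg
  have : Finite (N : Set J) := ‹Finite N›
  exact Subgroup.mem_normalizer_fintype (S := (N : Set J)) (h g hg)

theorem normal_of_gens' {J : Type*} [Group J] (N : Subgroup J) (S : Set J)
    (hS : Subgroup.closure S = ⊤) (h : ∀ g ∈ S, ∀ n ∈ N, g * n * g⁻¹ ∈ N)
    (h' : ∀ g ∈ S, ∀ n ∈ N, g⁻¹ * n * g ∈ N) : N.Normal := by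
  rw [← Subgroup.normalizer_eq_top_iff, eq_top_iff, ← hS, Subgroup.closure_le]
  intro g hg
  refine Subgroup.mem_normalizer_iff.2 (fun n => ⟨h g hg n, fun hn => ?_⟩)
  have := h' g hg _ hn
  simpa [mul_assoc] using this

theorem central_of_gens {J : Type*} [Group J] (S : Set J) (hS : Subgroup.closure S = ⊤) (c : J)
    (h : ∀ g ∈ S, Commute c g) (g : J) : Commute c g := by
  have : Subgroup.closure S ≤ Subgroup.centralizer {c} := by
    rw [Subgroup.closure_le]; intro x hx
    simpa [Subgroup.mem_centralizer_singleton_iff] using (h x hx).symm.eq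
  have h2 := this (hS ▸ Subgroup.mem_top g)
  rw [Subgroup.mem_centralizer_singleton_iff] at h2
  exact h2.symm

theorem pow_eq_of_zmod {J : Type*} [Group J] {a : J} {p : ℕ} (ha : a ^ p = 1) {m n : ℕ}
    (h : (m : ZMod p) = n) : a ^ m = a ^ n := by
  rw [pow_eq_pow_iff_modEq]
  exact ((ZMod.natCast_eq_natCast_iff _ _ _).1 h).of_dvd (orderOf_dvd_of_pow_eq_one ha)

namespace Alt

open Equiv Equiv.Perm

theorem sq_conj {J : Type*} [Group J] (g : J) {x y : J} (h : (x * y) ^ 2 = 1) :
    (g * x * g⁻¹ * (g * y * g⁻¹)) ^ 2 = 1 := by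
  have : g * x * g⁻¹ * (g * y * g⁻¹) = g * (x * y) * g⁻¹ := by group
  rw [this, conj_pow, h]; simp

theorem sq_symm {J : Type*} [Group J] {x y : J} (h : (x * y) ^ 2 = 1) : (y * x) ^ 2 = 1 := by
  have : y * x = y * (x * y) * y⁻¹ := by group
  rw [this, conj_pow, h]; simp

theorem sq_ex {J : Type*} [Group J] (b : Bool) {x y : J} :
    (x ^ ex b * y ^ ex b) ^ 2 = 1 ↔ (x * y) ^ 2 = 1 := by
  cases b
  · simp [ex]
  · simp only [ex, if_true, zpow_neg, zpow_one]
    rw [← mul_inv_rev, inv_pow, inv_eq_one]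
    exact ⟨sq_symm, sq_symm⟩

theorem ex_ex {J : Type*} [Group J] (b : Bool) (x : J) : (x ^ ex b) ^ ex b = x := by
  cases b <;> simp [ex]

theorem ex_mem {J : Type*} [Group J] (b : Bool) {x : J} {H : Subgroup J} :
    x ^ ex b ∈ H ↔ x ∈ H := by
  cases b <;> simp [ex]

theorem ex_cube {J : Type*} [Group J] (b : Bool) {x : J} (h : x ^ 3 = 1) : (x ^ ex b) ^ 3 = 1 := by
  cases b <;> simp [ex, h]

/-- the parity making `sp π b` even -/
def par {ι : Type*} [DecidableEq ι] [Fintype ι] (π : Perm ι) : Bool := decide (Perm.sign π = -1)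

theorem sign_sp_par {ι : Type*} [DecidableEq ι] [Fintype ι] (π : Perm ι) :
    Perm.sign (sp π (par π)) = 1 := by
  rw [sign_sp]
  rcases Int.units_eq_one_or (Perm.sign π) with h | h <;> simp [par, h]

theorem sign_sp_not_par {ι : Type*} [DecidableEq ι] [Fintype ι] (π : Perm ι) :
    Perm.sign (sp π (!par π)) = -1 := by
  rw [sign_sp]
  rcases Int.units_eq_one_or (Perm.sign π) with h | h <;> simp [par, h]

/-- the even permutation extending `π` -/
def spa {ι : Type*} [DecidableEq ι] [Fintype ι] (π : Perm ι) : AA ι :=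
  ⟨sp π (par π), mem_alternatingGroup.2 (sign_sp_par π)⟩

theorem spa_conj {ι : Type*} [DecidableEq ι] [Fintype ι] (π : Perm ι) (i : ι) :
    spa π * xa i * (spa π)⁻¹ = xa (π i) ^ ex (par π) :=
  Subtype.ext (by simpa [spa, xa] using sp_conj π (par π) i)

theorem par_of_odd {ι : Type*} [DecidableEq ι] [Fintype ι] (π : Perm ι) {k : ℕ} (hk : Odd k)
    (h : π ^ k = 1) : par π = false := by
  have := congrArg Perm.sign h
  rw [map_pow, map_one] at this
  rcases Int.units_eq_one_or (Perm.sign π) with h | h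
  · simp [par, h]
  · rw [h, hk.neg_one_pow] at this; exact absurd this (by decide)

theorem pr_base (p : ℕ) [hp : Fact p.Prime] (hp2 : p ≠ 2) {κ : Type} [Fintype κ] [DecidableEq κ]
    (hκ : Fintype.card κ = p) (k0 : κ) : ∃ a : AA κ, Pr ![a, xa k0] 4 := by
  classical
  obtain ⟨e0⟩ : Nonempty (ZMod p ≃ κ) := ⟨Fintype.equivOfCardEq (by simp [hκ])⟩
  let e : ZMod p ≃ κ := (Equiv.addRight (e0.symm k0)).trans e0
  have he0 : e 0 = k0 := by simp [e]
  obtain ⟨r, hr⟩ := IsCyclic.exists_generator (α := (ZMod p)ˣ)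
  have hr1 : (1 - r : ZMod p) ≠ 0 := by
    intro h
    have h1 : r = 1 := Units.ext (sub_eq_zero.1 h).symm
    obtain ⟨k, hk⟩ := hr (-1)
    simp only [h1, one_zpow] at hk
    have h2 : (1 : ZMod p) = -1 := congrArg Units.val hk
    have : ((2 : ℕ) : ZMod p) = 0 := by push_cast; linear_combination h2
    rw [ZMod.natCast_eq_zero_iff] at this
    exact hp2 ((Nat.prime_dvd_prime_iff_eq hp.out Nat.prime_two).1 this)
  let α : Perm κ := e.permCongr (Equiv.addRight 1)
  let β : Perm κ := e.permCongr (Units.mulLeft r)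
  have hα : ∀ (k : ℕ) (x : ZMod p), (α ^ k) (e x) = e (x + k) := by
    intro k
    induction k with
    | zero => simp
    | succ k ih => intro x; rw [pow_succ', Perm.mul_apply, ih]; simp [α, add_assoc]
  have hβ : ∀ x : ZMod p, β (e x) = e (r * x) := fun x => by simp [β]
  have hαp : α ^ p = 1 := by
    ext y; obtain ⟨x, rfl⟩ := e.surjective y; simp [hα]
  have hpar : par α = false := par_of_odd α (hp.out.odd_of_ne_two hp2) hαp
  let a : AA κ := spa α
  let b : AA κ := spa β
  have ha : ∀ k : ℕ, ((a ^ k : AA κ) : Perm (κ ⊕ Bool)) = sp (α ^ k) false := fun k => by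
    simp [a, spa, hpar, sp_false_pow]
  have hax : ∀ (k : ℕ) (x : ZMod p), a ^ k * xa (e x) * (a ^ k)⁻¹ = xa (e (x + k)) := by
    intro k x
    apply Subtype.ext
    have := sp_conj (α ^ k) false (e x)
    simpa [ha, xa, ex, hα] using this
  let t : ℕ := ((1 - r : ZMod p)⁻¹ - 1).val
  have ht : ((t : ZMod p) + 1) * (1 - r) = 1 := by
    simp only [t, ZMod.natCast_val, ZMod.cast_id', id_eq, sub_add_cancel]
    exact inv_mul_cancel₀ hr1
  -- the words
  let A : FreeGroup (Fin 2) := FreeGroup.of 0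
  let Z : FreeGroup (Fin 2) := FreeGroup.of 1
  let ψ : FreeGroup (ZMod p) →* FreeGroup (Fin 2) :=
    FreeGroup.lift (fun i => A ^ i.val * Z * (A ^ i.val)⁻¹)
  have hψ : ∀ {J : Type} [Group J] (j : Fin 2 → J), (FreeGroup.lift j).comp ψ =
      FreeGroup.lift (fun i : ZMod p => j 0 ^ i.val * j 1 * (j 0 ^ i.val)⁻¹) := by
    intro J _ j; ext i; simp [ψ, A, Z]
  have hX : (fun i : ZMod p => a ^ i.val * xa k0 * (a ^ i.val)⁻¹) = xa ∘ e := by
    ext1 i; rw [← he0, hax]; simp
  have hgen : Subgroup.closure (Set.range (xa ∘ e)) = ⊤ := by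
    rw [EquivLike.range_comp]; exact closure_xa
  obtain ⟨W0, hW0⟩ := (surj_lift_iff _).2 hgen b
  have hW : FreeGroup.lift ![a, xa k0] (ψ W0) = b := by
    rw [← MonoidHom.comp_apply, hψ]; simpa [hX] using hW0
  have hgen2 : Subgroup.closure (Set.range ![a, xa k0]) = ⊤ := by
    rw [eq_top_iff, ← hgen, ← hX, Subgroup.closure_le]
    rintro _ ⟨i, rfl⟩
    have h0 : a ∈ Subgroup.closure (Set.range ![a, xa k0]) := Subgroup.subset_closure ⟨0, rfl⟩
    have h1 : xa k0 ∈ Subgroup.closure (Set.range ![a, xa k0]) := Subgroup.subset_closure ⟨1, rfl⟩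
    exact Subgroup.mul_mem _ (Subgroup.mul_mem _ (Subgroup.pow_mem _ h0 _) h1)
      (Subgroup.inv_mem _ (Subgroup.pow_mem _ h0 _))
  refine ⟨a, Pr.of_univ _ [A ^ p * (Z ^ 3)⁻¹, ψ W0 * A ^ (t + 1) * (ψ W0)⁻¹ * (A ^ t)⁻¹,
    ψ W0 * Z * (ψ W0)⁻¹ * (Z ^ ex (par β))⁻¹, (Z * (A * Z * A⁻¹)) ^ 2] hgen2 ?_ ?_⟩
  · simp only [List.mem_cons, List.not_mem_nil, or_false, forall_eq_or_imp, forall_eq, map_mul,
      map_inv, map_pow, map_zpow, hW, A, Z, FreeGroup.lift_apply_of, Matrix.cons_val_zero,
      Matrix.cons_val_one, mul_inv_eq_one]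
    refine ⟨?_, ?_, ?_, ?_⟩
    · rw [xa_pow_three]; apply Subtype.ext; rw [ha, hαp, sp_one]; rfl
    · rw [mul_inv_eq_iff_eq_mul]
      apply Subtype.ext
      simp only [Subgroup.coe_mul, ha, b, spa, sp_mul]
      congr 1
      · ext y; obtain ⟨x, rfl⟩ := e.surjective y
        simp only [Perm.mul_apply, hα, hβ]
        congr 1
        push_cast
        linear_combination (-1 : ZMod p) * ht
      · simp
    · rw [← he0, spa_conj, hβ, mul_zero]
    · have := hax 1 0
      simp only [pow_one, he0] at this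
      rw [this, ← he0]
      exact xa_mul_sq (by simp)
  · intro J _ j π hπ hj hrel
    simp only [List.mem_cons, List.not_mem_nil, or_false, forall_eq_or_imp, forall_eq, map_mul,
      map_inv, map_pow, map_zpow, A, Z, FreeGroup.lift_apply_of, mul_inv_eq_one] at hrel
    obtain ⟨r1, r2, r3, r4⟩ := hrel
    set x := j 0 with hx
    set z := j 1 with hz
    set B := FreeGroup.lift j (ψ W0) with hB
    let X : ZMod p → J := fun i => x ^ i.val * z * (x ^ i.val)⁻¹
    have hBN : B ∈ Subgroup.closure (Set.range X) := by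
      rw [hB, ← MonoidHom.comp_apply, hψ, ← FreeGroup.range_lift_eq_closure]
      exact ⟨W0, rfl⟩
    have hcen : ∀ g, Commute (x ^ p) g := central_of_gens _ hj _ (by
      rintro _ ⟨i, rfl⟩
      fin_cases i
      · exact Commute.pow_self x p
      · rw [r1]; exact Commute.pow_self z 3)
    have hxp : x ^ p = 1 := by
      have h1 : B * (x ^ p) ^ (t + 1) * B⁻¹ = (x ^ p) ^ t := by
        rw [← pow_mul, mul_comm p, pow_mul, ← conj_pow, r2, ← pow_mul, mul_comm, pow_mul]
      rw [← ((hcen B).pow_left (t + 1)).eq, mul_inv_cancel_right, pow_succ] at h1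
      simpa using h1
    have hz3 : z ^ 3 = 1 := r1 ▸ hxp
    have hBx : B * x * B⁻¹ = x ^ (r : ZMod p).val := by
      have h1 : x = (x ^ (t + 1)) ^ (1 - r : ZMod p).val := by
        rw [← pow_mul]
        conv_lhs => rw [← pow_one x]
        apply pow_eq_of_zmod hxp
        push_cast
        simp only [ZMod.natCast_val, ZMod.cast_id', id_eq]
        exact ht.symm
      conv_lhs => rw [h1]
      rw [← conj_pow, r2, ← pow_mul]
      apply pow_eq_of_zmod hxp
      push_cast
      simp only [ZMod.natCast_val, ZMod.cast_id', id_eq]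
      linear_combination ht
    have hshift : ∀ (k : ℕ) (i : ZMod p), x ^ k * X i * (x ^ k)⁻¹ = X (i + k) := by
      intro k i
      have : x ^ (i + k : ZMod p).val = x ^ k * x ^ i.val := by
        rw [← pow_add]; apply pow_eq_of_zmod hxp; push_cast; simp [add_comm]
      simp only [X, this]; group
    have hBX : ∀ i : ZMod p, B * X i * B⁻¹ = X (r * i) ^ ex (par β) := by
      intro i
      have h1 : x ^ (r * i : ZMod p).val = B * x ^ i.val * B⁻¹ := by
        rw [← conj_pow, hBx, ← pow_mul]; apply pow_eq_of_zmod hxp; push_cast; simp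
      simp only [X]
      rw [conj_zpow, ← r3, h1]; group
    have hX0 : X 0 = z := by simp [X]
    have hX1 : X 1 = x * z * x⁻¹ := by simp [X, ZMod.val_one]
    have hP1 : ∀ k : ℕ, (X 0 * X ((r ^ k : (ZMod p)ˣ) : ZMod p)) ^ 2 = 1 := by
      intro k
      induction k with
      | zero => simpa [hX0, hX1] using r4
      | succ k ih =>
        have := sq_conj B ih
        rw [hBX, hBX, sq_ex, mul_zero] at this
        rw [pow_succ' r k]; exact this
    have hP : ∀ i j : ZMod p, i ≠ j → (X i * X j) ^ 2 = 1 := by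
      intro i k hik
      obtain ⟨m, hm⟩ : ∃ m : ℕ, r ^ m = Units.mk0 (k - i) (sub_ne_zero.2 hik.symm) :=
        (Submonoid.mem_powers_iff _ _).1 (mem_powers_iff_mem_zpowers.2 (hr _))
      have := sq_conj (x ^ i.val) (hP1 m)
      rw [hshift, hshift, hm] at this
      simpa using this
    have h3 : ∀ i, X i ^ 3 = 1 := fun i => by simp only [X]; rw [conj_pow, hz3]; simp
    obtain ⟨hfin, hcard⟩ := carm_card' X h3 hP
    set N := Subgroup.closure (Set.range X) with hN
    have hzN : z ∈ N := Subgroup.subset_closure ⟨0, hX0⟩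
    have hnorm : N.Normal := normal_of_gens N _ hj (by
      rintro _ ⟨i, rfl⟩
      fin_cases i
      · refine conj_mem_of_closure _ _ _ ?_
        rintro _ ⟨i, rfl⟩
        have := hshift 1 i
        rw [pow_one] at this
        exact this ▸ Subgroup.subset_closure ⟨_, rfl⟩
      · intro n hn; exact N.mul_mem (N.mul_mem hzN hn) (N.inv_mem hzN))
    have hxN : x ∈ N := by
      have h1 := congrArg (QuotientGroup.mk' N) r2
      have hB1 : QuotientGroup.mk' N B = 1 := (QuotientGroup.eq_one_iff B).2 hBN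
      simp only [map_mul, map_inv, map_pow, hB1, pow_succ] at h1
      rw [← QuotientGroup.eq_one_iff]
      simpa using h1
    have hNtop : N = ⊤ := by
      rw [eq_top_iff, ← hj, Subgroup.closure_le]
      rintro _ ⟨i, rfl⟩
      fin_cases i
      · exact hxN
      · exact hzN
    rw [hNtop] at hfin hcard
    have : Finite J := Finite.of_surjective _ (Subgroup.topEquiv (G := J)).surjective
    refine inj_of_card_le π (surj_of_closure π _ j hπ hgen2) ?_
    have h2 := two_mul_card_AA (ι := κ)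
    rw [Subgroup.card_top, ZMod.card] at hcard
    rw [hκ] at h2
    omega

end Alt

end H40
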