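import Cfsg.Agent.Lib.Pres.AltBase

/-!
# `A_n` and `S_n` (`n ≥ 5`) have presentations with 3 generators and 7 relations
-/

set_option autoImplicit false

namespace H40

/-- a group generated by a finite normal subgroup and an element with `τ ^ δ ∈ N` -/
theorem card_le_of_normal_cyclic {J : Type*} [Group J] (N : Subgroup J) [N.Normal] [Finite N]
    (τ : J) (δ : ℕ) (hδ : 0 < δ) (hτ : τ ^ δ ∈ N) (h : N ⊔ Subgroup.zpowers τ = ⊤) :
    Finite J ∧ Nat.card J ≤ δ * Nat.card N := by
  classical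
  obtain ⟨hf, hc⟩ := Alt.card_le_of_cosets N ⊤ ((Finset.range δ).image (fun i => τ ^ i)) (by
    intro g hg
    rw [← h] at hg
    obtain ⟨n, hn, _, ⟨k, rfl⟩, rfl⟩ := Subgroup.mem_sup_of_normal_left.1 hg
    have hδ' : (0 : ℤ) < δ := by exact_mod_cast hδ
    refine ⟨τ ^ (k % δ).toNat, Finset.mem_image.2 ⟨_, Finset.mem_range.2 ?_, rfl⟩, ?_⟩
    · have := Int.emod_lt_of_pos k hδ'
      have := Int.emod_nonneg k hδ'.ne'
      omega
    · have h1 : τ ^ k = (τ ^ δ) ^ (k / δ) * τ ^ (k % δ).toNat := by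
        rw [← zpow_natCast, ← zpow_natCast, Int.toNat_of_nonneg (Int.emod_nonneg k hδ'.ne'),
          ← zpow_mul, ← zpow_add, Int.mul_ediv_add_emod]
      simp only [h1, mul_assoc, mul_inv_cancel, mul_one]
      exact N.mul_mem hn (N.zpow_mem hτ _))
  have : Finite J := Finite.of_surjective _ (Subgroup.topEquiv (G := J)).surjective
  refine ⟨this, ?_⟩
  rw [Subgroup.card_top] at hc
  refine hc.trans (Nat.mul_le_mul_right _ ?_)
  exact Finset.card_image_le.trans (by simp)

namespace Alt

open Equiv Equiv.Perm Monoid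

theorem exists_cyc {ι : Type*} [Finite ι] (i0 : ι) :
    ∃ π : Perm ι, ∀ i, ∃ k : ℕ, (π ^ k) i0 = i := by
  classical
  have := Fintype.ofFinite ι
  have hpos : 0 < Fintype.card ι := Fintype.card_pos_iff.2 ⟨i0⟩
  have : NeZero (Fintype.card ι) := ⟨hpos.ne'⟩
  obtain ⟨e⟩ : Nonempty (ZMod (Fintype.card ι) ≃ ι) := ⟨Fintype.equivOfCardEq (by simp)⟩
  refine ⟨e.permCongr (Equiv.addRight 1), fun i => ⟨(e.symm i - e.symm i0).val, ?_⟩⟩
  have hα : ∀ (k : ℕ) (x : ZMod _), ((e.permCongr (Equiv.addRight 1)) ^ k) (e x) = e (x + k) := by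
    intro k
    induction k with
    | zero => simp
    | succ k ih => intro x; rw [pow_succ', Perm.mul_apply, ih]; simp [add_assoc]
  have := hα (e.symm i - e.symm i0).val (e.symm i0)
  simpa using this

variable {ι : Type*} [DecidableEq ι] [Fintype ι]

theorem mem_of_conj {G : Type*} [Group G] (f : AA ι →* G) (w : G) (π : Perm ι) (b : Bool)
    (hconj : ∀ i, w * f (xa i) * w⁻¹ = f (xa (π i)) ^ ex b) (H : Subgroup G) (hw : w ∈ H)
    {i : ι} (hi : f (xa i) ∈ H) (k : ℕ) : f (xa ((π ^ k) i)) ∈ H := by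
  induction k with
  | zero => simpa using hi
  | succ k ih =>
    rw [pow_succ', Perm.mul_apply, ← ex_mem b, ← hconj]
    exact H.mul_mem (H.mul_mem hw ih) (H.inv_mem hw)

theorem range_le_of_xa {G : Type*} [Group G] (f : AA ι →* G) (H : Subgroup G)
    (h : ∀ i, f (xa i) ∈ H) : f.range ≤ H := by
  rw [MonoidHom.range_eq_map, ← closure_xa, MonoidHom.map_closure, Subgroup.closure_le]
  rintro _ ⟨_, ⟨i, rfl⟩, rfl⟩; exact h i

theorem exists_pair (i0 : ι) : ∃ d : AA ι, Subgroup.closure {xa i0, d} = ⊤ := by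
  obtain ⟨π, hπ⟩ := exists_cyc i0
  refine ⟨spa π, ?_⟩
  have := range_le_of_xa (MonoidHom.id (AA ι)) (Subgroup.closure {xa i0, spa π}) (fun i => by
    obtain ⟨k, rfl⟩ := hπ i
    exact mem_of_conj (MonoidHom.id _) (spa π) π (par π) (spa_conj π) _
      (Subgroup.subset_closure (by simp)) (Subgroup.subset_closure (by simp)) k)
  rw [eq_top_iff]; intro x _; exact this ⟨x, rfl⟩

theorem exists_pair' : ∃ c d : AA ι, Subgroup.closure {c, d} = ⊤ := by
  rcases isEmpty_or_nonempty ι with h | ⟨⟨i0⟩⟩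
  · refine ⟨1, 1, ?_⟩
    rw [eq_top_iff, ← closure_xa, Set.range_eq_empty]; simp
  · exact ⟨xa i0, exists_pair i0⟩

theorem subtype_conj (π : Perm ι) (b : Bool) (i : ι) :
    sp π b * (AA ι).subtype (xa i) * (sp π b)⁻¹ = (AA ι).subtype (xa (π i)) ^ ex b :=
  sp_conj π b i

theorem top_of_odd (H : Subgroup (Perm (ι ⊕ Bool))) (hA : AA ι ≤ H) {w : Perm (ι ⊕ Bool)}
    (hw : w ∈ H) (hs : Perm.sign w = -1) : H = ⊤ := by
  rw [eq_top_iff]
  intro g _
  rcases Int.units_eq_one_or (Perm.sign g) with h | h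
  · exact hA (mem_alternatingGroup.2 h)
  · have : g * w⁻¹ ∈ H := hA (mem_alternatingGroup.2 (by simp [h, hs]))
    simpa using H.mul_mem this hw

theorem exists_pair_perm (i0 : ι) :
    ∃ d : Perm (ι ⊕ Bool), Subgroup.closure {xp i0, d} = ⊤ := by
  obtain ⟨π, hπ⟩ := exists_cyc i0
  refine ⟨sp π (!par π), ?_⟩
  have := range_le_of_xa (AA ι).subtype (Subgroup.closure {xp i0, sp π (!par π)}) (fun i => by
    obtain ⟨k, rfl⟩ := hπ i
    exact mem_of_conj _ _ π (!par π) (subtype_conj π _) _
      (Subgroup.subset_closure (by simp)) (Subgroup.subset_closure (Or.inl rfl)) k)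
  rw [Subgroup.range_subtype] at this
  exact top_of_odd _ this (Subgroup.subset_closure (by simp)) (sign_sp_not_par π)

/-- the shift on `ZMod N ⊔ Fin m` -/
def sh (N m : ℕ) : Perm (ZMod N ⊕ Fin m) := Equiv.sumCongr (Equiv.addRight 1) 1

theorem sh_pow_inl (N m k : ℕ) (x : ZMod N) : (sh N m ^ k) (.inl x) = .inl (x + k) := by
  induction k with
  | zero => simp
  | succ k ih => rw [pow_succ', Perm.mul_apply, ih]; simp [sh, add_assoc]

theorem sh_pow_inr (N m k : ℕ) (x : Fin m) : (sh N m ^ k) (.inr x) = .inr x := by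
  induction k with
  | zero => simp
  | succ k ih => rw [pow_succ', Perm.mul_apply, ih]; simp [sh]

theorem glue (N0 m w p : ℕ) [NeZero (2 * N0)] [Fact p.Prime] (hp2 : p ≠ 2) (hp : w + 1 + m = p)
    (hw : w < 2 * N0) (hw2 : N0 ≤ w) {G : Type} [Group G] (f : AA (ZMod (2 * N0) ⊕ Fin m) →* G)
    (σ : G) (b : Bool)
    (hconj : ∀ i, σ * f (xa i) * σ⁻¹ = f (xa (sh _ _ i)) ^ ex b) (δ : ℕ) (hδ : 0 < δ)
    (hrel : σ ^ (2 * N0) = (σ * f (xa (.inl 0))) ^ (2 * N0 + δ))
    (hgen : f.range ⊔ Subgroup.zpowers σ = ⊤)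
    (hcard : δ * Nat.card (AA (ZMod (2 * N0) ⊕ Fin m)) ≤ Nat.card G) :
    ∃ a : G, Pr ![a, f (xa (.inl 0)), σ] 7 := by
  classical
  set N := 2 * N0 with hN
  let e : Fin (w + 1) ⊕ Fin m → ZMod N ⊕ Fin m := Sum.map (fun k => (k.val : ZMod N)) id
  have he : Function.Injective e := by
    refine Sum.map_injective.2 ⟨fun k l h => ?_, Function.injective_id⟩
    have := (ZMod.natCast_eq_natCast_iff' _ _ _).1 h
    rw [Nat.mod_eq_of_lt (by omega), Nat.mod_eq_of_lt (by omega)] at this
    exact Fin.ext this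
  obtain ⟨f₁, hf₁⟩ := carm_hom (fun i => xa (e i)) (fun i => xa_pow_three _)
    (fun i j hij => xa_mul_sq (he.ne hij))
  let e₁ : Fin w ⊕ Fin m → Fin (w + 1) ⊕ Fin m := Sum.map Fin.castSucc id
  let e₂ : Fin w ⊕ Fin m → Fin (w + 1) ⊕ Fin m := Sum.map Fin.succ id
  have he₁ : Function.Injective e₁ :=
    Sum.map_injective.2 ⟨Fin.castSucc_injective _, Function.injective_id⟩
  have he₂ : Function.Injective e₂ :=
    Sum.map_injective.2 ⟨Fin.succ_injective _, Function.injective_id⟩
  obtain ⟨i₁, hi₁⟩ := carm_hom (fun i => xa (e₁ i)) (fun i => xa_pow_three _)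
    (fun i j hij => xa_mul_sq (he₁.ne hij))
  obtain ⟨i₂, hi₂⟩ := carm_hom (fun i => xa (e₂ i) ^ ex b) (fun i => ex_cube b (xa_pow_three _))
    (fun i j hij => (sq_ex b).2 (xa_mul_sq (he₂.ne hij)))
  obtain ⟨c, d, hcd⟩ := exists_pair' (ι := Fin w ⊕ Fin m)
  obtain ⟨a0, ha0⟩ := pr_base p hp2 (κ := Fin (w + 1) ⊕ Fin m) (by simpa using hp) (.inl 0)
  let F := f.comp f₁
  have hF0 : F (xa (.inl 0)) = f (xa (.inl 0)) := by simp [F, hf₁, e]
  let S : Coprod (AA (Fin (w + 1) ⊕ Fin m)) (FreeGroup Unit) := Coprod.inr (FreeGroup.of ())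
  have hgen' : F.range ⊔ Subgroup.closure (Set.range (fun _ : Unit => σ)) = ⊤ := by
    rw [eq_top_iff, ← hgen, sup_le_iff]
    have hσ : σ ∈ F.range ⊔ Subgroup.closure (Set.range (fun _ : Unit => σ)) :=
      Subgroup.mem_sup_right (Subgroup.subset_closure ⟨(), rfl⟩)
    refine ⟨range_le_of_xa f _ ?_, by rwa [Subgroup.zpowers_le]⟩
    rintro (x | x)
    · have := mem_of_conj f σ _ b hconj _ hσ (i := .inl 0)
        (Subgroup.mem_sup_left ⟨_, hF0⟩) x.val
      simpa [sh_pow_inl] using this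
    · exact Subgroup.mem_sup_left ⟨xa (.inr x), by simp [F, hf₁, e]⟩
  have hmain := ha0.ext F (fun _ : Unit => σ)
    [S * Coprod.inl (i₁ c) * S⁻¹ * (Coprod.inl (i₂ c))⁻¹,
     S * Coprod.inl (i₁ d) * S⁻¹ * (Coprod.inl (i₂ d))⁻¹,
     S ^ N * ((S * Coprod.inl (xa (.inl 0))) ^ (N + δ))⁻¹] hgen' ?_ ?_
  · refine ⟨F a0, hmain.remove ![.inl 0, .inl 1, .inr ()] (by decide) _ ?_ ?_⟩
    · intro i; fin_cases i
      · rfl
      · exact hF0.symm
      · rfl
    · rw [eq_top_iff, ← hmain.closure_eq, Subgroup.closure_le]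
      rintro _ ⟨i | i, rfl⟩
      · fin_cases i
        · exact Subgroup.subset_closure ⟨0, rfl⟩
        · exact Subgroup.subset_closure ⟨1, hF0.symm⟩
      · exact Subgroup.subset_closure ⟨2, rfl⟩
  · have hh : ((MulAut.conj σ).toMonoidHom.comp F).comp i₁ = F.comp i₂ := by
      apply hom_ext
      intro i
      simp only [MonoidHom.comp_apply, F, hi₁, hi₂, hf₁, map_zpow, MulEquiv.coe_toMonoidHom,
        MulAut.conj_apply, hconj]
      congr 3
      rcases i with i | i <;> simp [e, e₁, e₂, sh]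
    simp only [List.mem_cons, List.not_mem_nil, or_false, forall_eq_or_imp, forall_eq, map_mul,
      map_inv, map_pow, S, Coprod.lift_apply_inl, Coprod.lift_apply_inr, FreeGroup.lift_apply_of,
      mul_inv_eq_one, hF0]
    exact ⟨DFunLike.congr_fun hh c, DFunLike.congr_fun hh d, hrel⟩
  · intro J _ fJ j π hπ1 hπ2 hJ hr
    simp only [List.mem_cons, List.not_mem_nil, or_false, forall_eq_or_imp, forall_eq, map_mul,
      map_inv, map_pow, S, Coprod.lift_apply_inl, Coprod.lift_apply_inr, FreeGroup.lift_apply_of,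
      mul_inv_eq_one] at hr
    obtain ⟨r1, r2, r3⟩ := hr
    set τ := j () with hτ
    set z := fJ (xa (.inl 0)) with hz
    have hh : ((MulAut.conj τ).toMonoidHom.comp fJ).comp i₁ = fJ.comp i₂ :=
      MonoidHom.eq_of_eqOn_dense hcd (by
        rintro _ (rfl | rfl)
        · exact r1
        · exact r2)
    let φ : J → J := fun y => (τ * y * τ⁻¹) ^ ex b
    have hφ : ∀ i, φ (fJ (xa (e₁ i))) = fJ (xa (e₂ i)) := fun i => by
      have := DFunLike.congr_fun hh (xa i)
      simp only [MonoidHom.comp_apply, hi₁, hi₂, map_zpow, MulEquiv.coe_toMonoidHom,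
        MulAut.conj_apply] at this
      simp only [φ, this, ex_ex]
    have hφP : ∀ (k : ℕ) (x y : J), (x * y) ^ 2 = 1 → (φ^[k] x * φ^[k] y) ^ 2 = 1 := by
      intro k x y h
      induction k with
      | zero => exact h
      | succ k ih =>
        rw [Function.iterate_succ_apply', Function.iterate_succ_apply']
        exact (sq_ex b).2 (sq_conj τ ih)
    have hφ2 : ∀ (k : ℕ) (y : J), φ^[2 * k] y = τ ^ (2 * k) * y * (τ ^ (2 * k))⁻¹ := by
      intro k y
      induction k with
      | zero => simp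
      | succ k ih =>
        rw [show 2 * (k + 1) = 2 * k + 1 + 1 by ring, Function.iterate_succ_apply',
          Function.iterate_succ_apply', ih]
        simp only [φ]
        rw [← conj_zpow, ex_ex]
        simp only [pow_succ']; group
    let Y : ℕ → J := fun k => φ^[k] z
    have hY : ∀ k (hk : k < w + 1), Y k = fJ (xa (.inl ⟨k, hk⟩)) := by
      intro k
      induction k with
      | zero => intro _; rfl
      | succ k ih =>
        intro hk
        simp only [Y] at ih ⊢
        rw [Function.iterate_succ_apply', ih (by omega)]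
        exact hφ (.inl ⟨k, by omega⟩)
    have hYN : Y N = z := by
      have h1 : Commute (τ ^ N) (τ * z) := by rw [r3]; exact Commute.pow_self _ _
      have h2 : Commute (τ ^ N) z := by
        have := ((Commute.pow_self τ N).inv_right).mul_right h1
        simpa using this
      simp only [Y]
      rw [hN, hφ2, ← hN, h2.eq, mul_inv_cancel_right]
    have hYper : ∀ k, Y (k + N) = Y k := fun k => by
      simp only [Y] at hYN ⊢
      rw [Function.iterate_add_apply, hYN]
    have hYmod : ∀ k, Y k = Y (k % N) := fun k => by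
      have : Function.Periodic Y N := hYper
      exact (this.map_mod_nat k).symm
    let E : Fin m → J := fun x => fJ (xa (.inr x))
    have hE : ∀ k x, φ^[k] (E x) = E x := fun k x =>
      Function.iterate_fixed (hφ (.inr x)) k
    have hfP : ∀ i k, i ≠ k → (fJ (xa i) * fJ (xa k)) ^ 2 = 1 := fun i k h => by
      rw [← map_mul, ← map_pow, xa_mul_sq h, map_one]
    have hP0 : ∀ i d, 0 < d → d ≤ w → (Y i * Y (i + d)) ^ 2 = 1 := by
      intro i d h0 hd
      have h1 : (z * Y d) ^ 2 = 1 := by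
        rw [hY d (by omega)]
        exact hfP _ _ (by simp [Fin.ext_iff]; omega)
      have := hφP i _ _ h1
      simp only [Y]
      rwa [Function.iterate_add_apply]
    have hP1 : ∀ i k, i < k → k < N → (Y i * Y k) ^ 2 = 1 := by
      intro i k hik hk
      by_cases h : k - i ≤ w
      · have := hP0 i (k - i) (by omega) h
        rwa [show i + (k - i) = k by omega] at this
      · have := hP0 k (i + N - k) (by omega) (by omega)
        rw [show k + (i + N - k) = i + N by omega, hYper] at this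
        exact sq_symm this
    have hP2 : ∀ i x, (Y i * E x) ^ 2 = 1 := fun i x => by
      have := hφP i z (E x) (hfP _ _ (by simp))
      rwa [hE] at this
    have hY3 : ∀ k, Y k ^ 3 = 1 := fun k => by
      induction k with
      | zero => simp only [Y, Function.iterate_zero, id, hz]; rw [← map_pow, xa_pow_three, map_one]
      | succ k ih =>
        simp only [Y] at ih ⊢
        rw [Function.iterate_succ_apply']
        exact ex_cube b (by rw [conj_pow, ih]; simp)
    let X : ZMod N ⊕ Fin m → J := Sum.elim (fun i => Y i.val) E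
    obtain ⟨hfin, hc⟩ := carm_card' X (by
      rintro (i | x)
      · exact hY3 _
      · simp only [X, E, Sum.elim_inr]; rw [← map_pow, xa_pow_three, map_one]) (by
      rintro (i | x) (k | y) h
      · have hne : i.val ≠ k.val := fun h' => h (congrArg _ (ZMod.val_injective _ h'))
        rcases lt_or_gt_of_ne hne with h' | h'
        · exact hP1 _ _ h' (ZMod.val_lt k)
        · exact sq_symm (hP1 _ _ h' (ZMod.val_lt i))
      · exact hP2 _ _
      · exact sq_symm (hP2 _ _)
      · exact hfP _ _ (by simpa using h))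
    set M := Subgroup.closure (Set.range X) with hM
    have hYM : ∀ k, Y k ∈ M := fun k => by
      rw [hYmod]
      exact Subgroup.subset_closure ⟨.inl (k : ZMod N), by simp [X, ZMod.val_natCast]⟩
    have hfM : fJ.range ≤ M := range_le_of_xa fJ M (by
      rintro (k | x)
      · rw [← hY k.val k.2]; exact hYM _
      · exact Subgroup.subset_closure ⟨.inr x, rfl⟩)
    have hJ' : Subgroup.closure ((fJ.range : Set J) ∪ {τ}) = ⊤ := by
      rw [Subgroup.closure_union, Subgroup.closure_eq, ← hJ]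
      congr 2
      exact (Set.range_unique (f := j)).symm
    have hnorm : M.Normal := normal_of_gens M _ hJ' (by
      rintro g (hg | rfl)
      · intro n hn; exact M.mul_mem (M.mul_mem (hfM hg) hn) (M.inv_mem (hfM hg))
      · refine conj_mem_of_closure _ _ _ ?_
        rintro _ ⟨i, rfl⟩
        rw [← ex_mem b]
        rcases i with i | x
        · have := hYM (i.val + 1)
          simp only [Y] at this
          rw [Function.iterate_succ_apply'] at this
          exact this
        · have := hE 1 x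
          simp only [Function.iterate_one, φ] at this
          simp only [X, Sum.elim_inr, this]
          exact Subgroup.subset_closure ⟨.inr x, rfl⟩)
    have hτδ : τ ^ δ ∈ M := by
      have h1 := congrArg (QuotientGroup.mk' M) r3
      have hz1 : QuotientGroup.mk' M z = 1 := (QuotientGroup.eq_one_iff z).2 (hYM 0)
      simp only [map_mul, map_pow, hz1, mul_one, pow_add] at h1
      rw [← QuotientGroup.eq_one_iff]
      simpa using h1.symm
    obtain ⟨hfJ, hcJ⟩ := card_le_of_normal_cyclic M τ δ hδ hτδ (by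
      rw [eq_top_iff, ← hJ', Subgroup.closure_le]
      rintro g (hg | rfl)
      · exact Subgroup.mem_sup_left (hfM hg)
      · exact Subgroup.mem_sup_right (Subgroup.mem_zpowers _))
    refine inj_of_card_le π (surj_of_ext π F fJ _ j hπ1 hπ2 hgen') (hcJ.trans (le_trans ?_ hcard))
    have := two_mul_card_AA (ι := ZMod N ⊕ Fin m)
    have h2 : Nat.card M ≤ Nat.card (AA (ZMod N ⊕ Fin m)) := by omega
    exact Nat.mul_le_mul_left _ h2

theorem pow_eq_one_of_orbit {Ω : Type*} (g : Perm Ω) (v : Ω) (M : ℕ) (hv : (g ^ M) v = v)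
    (h : ∀ y, g y = y ∨ ∃ k : ℕ, (g ^ k) v = y) : g ^ M = 1 := by
  ext y
  rcases h y with h | ⟨k, rfl⟩
  · exact Perm.pow_apply_eq_self_of_apply_eq_self h M
  · rw [← Perm.mul_apply, ← pow_add, add_comm, pow_add, Perm.mul_apply, hv]; rfl

theorem sh_rel (N m : ℕ) [NeZero N] (b : Bool) :
    (sp (sh N m) b * xp (.inl 0)) ^ (N + if b then 1 else 2) = 1 := by
  set g := sp (sh N m) b * xp (.inl 0) with hg
  have h1 : ∀ k : ℕ, k < N → (g ^ (k + 1)) (.inr true) = .inl (.inl ((k + 1 : ℕ) : ZMod N)) := by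
    intro k
    induction k with
    | zero => intro _; simp [hg, xp_true, sp_inl, sh]
    | succ k ih =>
      intro hk
      have hne : ((k + 1 : ℕ) : ZMod N) ≠ 0 := by
        rw [Ne, ZMod.natCast_eq_zero_iff]
        exact Nat.not_dvd_of_pos_of_lt (by omega) hk
      rw [pow_succ', Perm.mul_apply, ih (by omega), hg, Perm.mul_apply,
        xp_inl_ne (by simpa using hne), sp_inl]
      simp [sh]
  have hN : 0 < N := Nat.pos_of_ne_zero (NeZero.ne N)
  have h2 : (g ^ N) (.inr true) = .inl (.inl 0) := by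
    have := h1 (N - 1) (by omega)
    rw [Nat.sub_add_cancel hN] at this
    simpa using this
  have h3 : (g ^ (N + 1)) (.inr true) = .inr b := by
    rw [pow_succ', Perm.mul_apply, h2, hg, Perm.mul_apply, xp_inl_self, sp_inr]; simp
  have h4 : g (.inr false) = .inr (!b) := by
    rw [hg, Perm.mul_apply, xp_false, sp_inr]; simp
  refine pow_eq_one_of_orbit g (.inr true) _ ?_ ?_
  · cases b
    · simp only [Bool.false_eq_true, if_false]
      rw [show N + 2 = (N + 1) + 1 by ring, pow_succ', Perm.mul_apply, h3, h4]; rfl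
    · exact h3
  · rintro ((x | x) | (_ | _))
    · right
      by_cases hx : x = 0
      · exact ⟨N, hx ▸ h2⟩
      · have : 0 < x.val := ZMod.val_pos.2 hx
        refine ⟨x.val - 1 + 1, ?_⟩
        rw [h1 _ (by have := ZMod.val_lt x; omega), Nat.sub_add_cancel this]; simp
    · left; rw [hg, Perm.mul_apply, xp_inl_ne (by simp), sp_inl]; simp [sh]
    · cases b
      · exact Or.inr ⟨N + 1, h3⟩
      · exact Or.inl h4
    · exact Or.inr ⟨0, rfl⟩

theorem sh_pow_self (N m : ℕ) : sh N m ^ N = 1 := by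
  ext x; rcases x with x | x <;> simp [sh_pow_inl, sh_pow_inr]

theorem sign_sh (N0 m : ℕ) [NeZero (2 * N0)] : Perm.sign (sh (2 * N0) m) = -1 := by
  have h := congrArg Perm.sign (sh_rel (2 * N0) m true)
  simp only [if_true, map_pow, map_mul, sign_sp, sign_xp, map_one, mul_one] at h
  rcases Int.units_eq_one_or (Perm.sign (sh (2 * N0) m)) with h1 | h1
  · rw [h1, one_mul, Odd.neg_one_pow ⟨N0, rfl⟩] at h; exact absurd h (by decide)
  · exact h1

theorem params (n : ℕ) (hn : 5 ≤ n) : ∃ N0 m w p : ℕ, p.Prime ∧ p ≠ 2 ∧ w + 1 + m = p ∧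
    w < 2 * N0 ∧ N0 ≤ w ∧ 2 * N0 + m + 2 = n := by
  rcases Nat.even_or_odd' n with ⟨k, rfl | rfl⟩
  · obtain ⟨p, hp, h1, h2⟩ := Nat.exists_prime_lt_and_le_two_mul (k - 1) (by omega)
    exact ⟨k - 1, 0, p - 1, p, hp, by omega, by omega, by omega, by omega, by omega⟩
  · obtain ⟨p, hp, h1, h2⟩ := Nat.exists_prime_lt_and_le_two_mul k (by omega)
    have : p ≠ 2 * k := by
      rintro rfl
      rcases hp.eq_one_or_self_of_dvd 2 ⟨k, rfl⟩ with h | h <;> omega
    exact ⟨k - 1, 1, p - 2, p, hp, by omega, by omega, by omega, by omega, by omega⟩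

/-- the 3-generator, 7-relation presentation, with a 3-cycle as the middle generator -/
theorem pr_seven (n : ℕ) (hn : 5 ≤ n) : ∃ (ι : Type) (_ : DecidableEq ι) (_ : Fintype ι) (i0 : ι),
    Fintype.card ι + 2 = n ∧ (∃ a σ : AA ι, Pr ![a, xa i0, σ] 7) ∧
      ∃ a σ : Perm (ι ⊕ Bool), Pr ![a, xp i0, σ] 7 := by
  obtain ⟨N0, m, w, p, hp, hp2, h1, h2, h3, h4⟩ := params n hn
  have : NeZero (2 * N0) := ⟨by omega⟩
  have : Fact p.Prime := ⟨hp⟩
  refine ⟨ZMod (2 * N0) ⊕ Fin m, inferInstance, inferInstance, .inl 0, by simpa using h4, ?_, ?_⟩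
  · have hpar : par (sh (2 * N0) m) = true := by simp [par, sign_sh]
    obtain ⟨a, ha⟩ := glue N0 m w p hp2 h1 h2 h3 (MonoidHom.id _) (spa (sh _ _)) true
      (fun i => by simpa [hpar] using spa_conj (sh (2 * N0) m) i) 1 one_pos (by
        apply Subtype.ext
        have := sh_rel (2 * N0) m true
        simp only [if_true] at this
        simp only [spa, hpar, MonoidHom.id_apply, xa, SubmonoidClass.mk_pow, MulMemClass.mk_mul_mk,
          this, sp_pow_even, sh_pow_self, sp_one])
      (by rw [MonoidHom.range_eq_top.2 (by exact Function.surjective_id)]; simp) (by simp)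
    exact ⟨a, _, ha⟩
  · obtain ⟨a, ha⟩ := glue N0 m w p hp2 h1 h2 h3 (AA _).subtype (sp (sh _ _) false) false
      (subtype_conj _ _) 2 two_pos (by
        have := sh_rel (2 * N0) m false
        simp only [Bool.false_eq_true, if_false] at this
        rw [sp_pow_even, sh_pow_self, sp_one]; exact this.symm)
      (top_of_odd _ (by rw [Subgroup.range_subtype]; exact le_sup_left)
        (Subgroup.mem_sup_right (Subgroup.mem_zpowers _)) (by simp [sign_sp, sign_sh]))
      (by rw [two_mul_card_AA, Nat.card_perm]; simp)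
    exact ⟨a, _, ha⟩

theorem hasPr_alt (n : ℕ) (hn : 5 ≤ n) {α : Type*} [DecidableEq α] [Fintype α]
    (hα : Fintype.card α = n) : HasPr (alternatingGroup α) 3 7 ∧ HasPr (Perm α) 3 7 := by
  obtain ⟨ι, _, _, i0, hι, ⟨a, σ, h1⟩, ⟨a', σ', h2⟩⟩ := pr_seven n hn
  let e : ι ⊕ Bool ≃ α := Fintype.equivOfCardEq (by simp [hι, hα])
  exact ⟨HasPr.congr ⟨_, h1⟩ e.altCongrHom, HasPr.congr ⟨_, h2⟩ e.permCongrHom⟩

theorem pair_of_three {G : Type*} [Group G] {a z σ d : G} {r : ℕ} (h : Pr ![a, z, σ] r)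
    (hd : Subgroup.closure {z, d} = ⊤) : Pr ![z, d] (r + 1) := by
  have := h.add (fun _ : Unit => d)
  refine this.remove ![.inl 1, .inr ()] (by decide) _ ?_ (by simpa [Set.pair_comm] using hd)
  intro i; fin_cases i <;> rfl

theorem hasPr_alt_two (n : ℕ) (hn : 5 ≤ n) {α : Type*} [DecidableEq α] [Fintype α]
    (hα : Fintype.card α = n) : HasPr (alternatingGroup α) 2 8 ∧ HasPr (Perm α) 2 8 := by
  obtain ⟨ι, _, _, i0, hι, ⟨a, σ, h1⟩, ⟨a', σ', h2⟩⟩ := pr_seven n hn
  let e : ι ⊕ Bool ≃ α := Fintype.equivOfCardEq (by simp [hι, hα])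
  obtain ⟨d, hd⟩ := exists_pair i0
  obtain ⟨d', hd'⟩ := exists_pair_perm i0
  exact ⟨HasPr.congr ⟨_, pair_of_three h1 hd⟩ e.altCongrHom,
    HasPr.congr ⟨_, pair_of_three h2 hd'⟩ e.permCongrHom⟩

/-- Carmichael's presentation -/
theorem pr_carm {ι : Type} [LinearOrder ι] [Fintype ι] :
    Pr (xa (ι := ι)) (Fintype.card ι + (Finset.univ.filter (fun p : ι × ι => p.1 < p.2)).card) := by
  have := Pr.of_univ (xa (ι := ι))
    (Finset.univ.toList.map (fun i => FreeGroup.of i ^ 3) ++
      (Finset.univ.filter (fun p : ι × ι => p.1 < p.2)).toList.map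
        (fun p => (FreeGroup.of p.1 * FreeGroup.of p.2) ^ 2)) closure_xa ?_ ?_
  · simpa using this
  · intro w hw
    simp only [List.mem_append, List.mem_map, Finset.mem_toList, Finset.mem_univ, true_and,
      Finset.mem_filter] at hw
    rcases hw with ⟨i, rfl⟩ | ⟨p, hp, rfl⟩
    · simpa using xa_pow_three i
    · simpa using xa_mul_sq hp.ne
  · intro J _ j π hπ hj hr
    simp only [List.mem_append, List.mem_map, Finset.mem_toList, Finset.mem_univ, true_and,
      Finset.mem_filter] at hr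
    obtain ⟨φ, hφ⟩ := carm_hom j (fun i => by simpa using hr _ (Or.inl ⟨i, rfl⟩)) (fun i k hik => by
      rcases lt_or_gt_of_ne hik with h | h
      · simpa using hr _ (Or.inr ⟨(i, k), h, rfl⟩)
      · exact sq_symm (by simpa using hr _ (Or.inr ⟨(k, i), h, rfl⟩)))
    exact inj_of_surj π (surj_of_closure π _ j hπ closure_xa) φ (surj_of_closure φ j _ hφ hj)

theorem pr_perm_of_alt {ι : Type} [DecidableEq ι] [Fintype ι] {r : ℕ} (h : Pr (xa (ι := ι)) r) :
    Pr (Sum.elim xp (fun _ : Unit => sp (1 : Perm ι) true)) (r + (Fintype.card ι + 1)) := by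
  let S : Coprod (AA ι) (FreeGroup Unit) := Coprod.inr (FreeGroup.of ())
  have hgen : (AA ι).subtype.range ⊔
      Subgroup.closure (Set.range (fun _ : Unit => sp (1 : Perm ι) true)) = ⊤ :=
    top_of_odd _ (by rw [Subgroup.range_subtype]; exact le_sup_left)
      (Subgroup.mem_sup_right (Subgroup.subset_closure ⟨(), rfl⟩)) (by simp [sign_sp])
  have := h.ext (AA ι).subtype (fun _ : Unit => sp (1 : Perm ι) true)
    (S ^ 2 :: Finset.univ.toList.map
      (fun i => S * Coprod.inl (xa i) * S⁻¹ * Coprod.inl (xa i))) hgen ?_ ?_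
  · exact this.mono (by simp)
  · intro w hw
    simp only [List.mem_cons, List.mem_map, Finset.mem_toList, Finset.mem_univ, true_and] at hw
    rcases hw with rfl | ⟨i, rfl⟩
    · simpa [S, sp_one] using sp_pow_even (1 : Perm ι) true 1
    · simp only [S, map_mul, map_inv, Coprod.lift_apply_inl, Coprod.lift_apply_inr,
        FreeGroup.lift_apply_of, subtype_conj]
      simp [ex]
  · intro J _ fJ j π hπ1 hπ2 hJ hr
    simp only [List.mem_cons, List.mem_map, Finset.mem_toList, Finset.mem_univ, true_and] at hr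
    have r1 : j () ^ 2 = 1 := by simpa [S] using hr _ (Or.inl rfl)
    have r2 : ∀ i, j () * fJ (xa i) * (j ())⁻¹ = (fJ (xa i))⁻¹ := fun i => by
      rw [eq_inv_iff_mul_eq_one]; simpa [S] using hr _ (Or.inr ⟨i, rfl⟩)
    have hJ' : Subgroup.closure ((fJ.range : Set J) ∪ {j ()}) = ⊤ := by
      rw [Subgroup.closure_union, Subgroup.closure_eq, ← hJ]
      congr 2
      exact (Set.range_unique (f := j)).symm
    have hfin : Finite fJ.range := Finite.of_surjective _ fJ.rangeRestrict_surjective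
    have hnorm : fJ.range.Normal := normal_of_gens _ _ hJ' (by
      rintro g (hg | rfl)
      · intro n hn; exact Subgroup.mul_mem _ (Subgroup.mul_mem _ hg hn) (Subgroup.inv_mem _ hg)
      · rw [MonoidHom.range_eq_map, ← closure_xa, MonoidHom.map_closure]
        refine conj_mem_of_closure _ _ _ ?_
        rintro _ ⟨_, ⟨i, rfl⟩, rfl⟩
        rw [r2]; exact Subgroup.inv_mem _ (Subgroup.subset_closure ⟨_, ⟨i, rfl⟩, rfl⟩))
    obtain ⟨hfJ, hcJ⟩ := card_le_of_normal_cyclic fJ.range (j ()) 2 two_pos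
      (r1 ▸ Subgroup.one_mem _) (by
        rw [eq_top_iff, ← hJ', Subgroup.closure_le]
        rintro g (hg | rfl)
        · exact Subgroup.mem_sup_left hg
        · exact Subgroup.mem_sup_right (Subgroup.mem_zpowers _))
    refine inj_of_card_le π (surj_of_ext π _ fJ _ j hπ1 hπ2 hgen) (hcJ.trans ?_)
    have h1 := Nat.card_le_card_of_surjective _ fJ.rangeRestrict_surjective
    have h2 := two_mul_card_AA (ι := ι)
    rw [Nat.card_perm]
    simp only [Nat.card_eq_fintype_card (α := ι ⊕ Bool), Fintype.card_sum, Fintype.card_bool]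
    omega

theorem hasPr_trivial (G : Type*) [Group G] [Subsingleton G] : HasPr G 0 0 :=
  ⟨fun _ => 1, Pr.of_univ _ [] (Subsingleton.elim _ _) (by simp) (fun J _ j π _ hj _ => by
    have : Subsingleton J := by
      rw [Set.range_eq_empty, Subgroup.closure_empty] at hj
      exact Subgroup.subsingleton_iff.1 (subsingleton_of_bot_eq_top hj)
    exact Function.injective_of_subsingleton _)⟩

theorem hasPr_alt_two' (n : ℕ) :
    HasPr (alternatingGroup (Fin n)) 2 8 ∧ HasPr (Perm (Fin n)) 2 8 := by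
  by_cases hn : 5 ≤ n
  · exact hasPr_alt_two n hn (by simp)
  by_cases h2 : n < 2
  · have : Subsingleton (Fin n) := Fin.subsingleton_iff_le_one.2 (by omega)
    exact ⟨(hasPr_trivial _).pad (by omega) (by omega), (hasPr_trivial _).pad (by omega) (by omega)⟩
  obtain ⟨k, rfl⟩ : ∃ k, n = k + 2 := ⟨n - 2, by omega⟩
  let e : Fin k ⊕ Bool ≃ Fin (k + 2) := Fintype.equivOfCardEq (by simp)
  have h1 := pr_carm (ι := Fin k)
  have h3 := pr_perm_of_alt h1
  refine ⟨HasPr.congr ?_ e.altCongrHom, HasPr.congr ?_ e.permCongrHom⟩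
  · have hk : k ≤ 2 := by omega
    interval_cases k <;> exact h1.hasPr (by simp) (by decide)
  · have hk : k ≤ 2 := by omega
    interval_cases k
    · exact h3.hasPr (by simp) (by decide)
    · exact h3.hasPr (by simp) (by decide)
    · obtain ⟨d, hd⟩ := exists_pair_perm (0 : Fin 2)
      exact ⟨_, ((h3.hasPr (d := 3) (s := 6) (by simp) (by decide)).pair _ _ hd)⟩

end Alt

end H40
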