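import Cfsg.Agent.Lib.Pres.SL3
import Cfsg.Agent.Lib.SL2Elt.Steinberg

/-!
# The Bruhat argument for presentations of `SL_2(F)` and `PSL_2(F)`
-/

set_option autoImplicit false

open scoped commutatorElement

namespace H77.Pres

open H40 H64 H64.St2

/-- Rank one data in an abstract group. -/
structure BD (F J : Type*) [Field F] [Group J] (c : F) where
  /-- root elements -/
  X : F → J
  /-- torus generator -/
  h : J
  /-- Weyl element -/
  w : J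
  add : IsAdd X
  c0 : c ≠ 0
  hX : ∀ a, h * X a * h⁻¹ = X (c * a)
  hw : w * h * w⁻¹ = h⁻¹
  w2 : w ^ 2 ∈ Subgroup.zpowers h

namespace BD

variable {F J : Type*} [Field F] [Group J] {c : F} (E : BD F J c)

theorem hX_zpow (k : ℤ) (a : F) : E.h ^ k * E.X a * (E.h ^ k)⁻¹ = E.X (c ^ k * a) := by
  induction k using Int.induction_on generalizing a with
  | zero => simp
  | succ k ih =>
    rw [zpow_add_one, zpow_add_one₀ E.c0, mul_assoc (c ^ (k : ℤ)), ← ih, ← E.hX]; group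
  | pred k ih =>
    have e := E.hX (c⁻¹ * a)
    rw [mul_inv_cancel_left₀ E.c0] at e
    rw [zpow_sub_one, zpow_sub_one₀ E.c0, mul_assoc (c ^ (-k : ℤ)), ← ih]
    conv_lhs => rw [← e]
    group

theorem w_zpow (k : ℤ) : E.w * E.h ^ k * E.w⁻¹ = E.h ^ (-k) := by
  rw [← conj_zpow, E.hw, inv_zpow']

/-- The Borel subgroup. -/
def B : Subgroup J where
  carrier := {g | ∃ (a : F) (k : ℤ), g = E.X a * E.h ^ k}
  one_mem' := ⟨0, 0, by simp [E.add.zero]⟩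
  mul_mem' := by
    rintro _ _ ⟨a, k, rfl⟩ ⟨b, l, rfl⟩
    exact ⟨a + c ^ k * b, k + l, by rw [E.add, ← E.hX_zpow]; group⟩
  inv_mem' := by
    rintro _ ⟨a, k, rfl⟩
    exact ⟨c ^ (-k) * -a, -k, by rw [← E.hX_zpow, E.add.neg]; group⟩

theorem X_mem (a : F) : E.X a ∈ E.B := ⟨a, 0, by simp⟩

theorem h_mem (k : ℤ) : E.h ^ k ∈ E.B := ⟨0, k, by simp [E.add.zero]⟩

theorem w2_mem : E.w ^ 2 ∈ E.B := by obtain ⟨k, hk⟩ := E.w2; rw [← hk]; exact E.h_mem k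

/-- The big cell. -/
def Big (g : J) : Prop := ∃ b ∈ E.B, ∃ b' ∈ E.B, g = b * E.w * b'

variable {E}

theorem Big.left {g b : J} (hg : E.Big g) (hb : b ∈ E.B) : E.Big (b * g) := by
  obtain ⟨b1, h1, b2, h2, rfl⟩ := hg
  exact ⟨b * b1, mul_mem hb h1, b2, h2, by group⟩

theorem Big.right {g b : J} (hg : E.Big g) (hb : b ∈ E.B) : E.Big (g * b) := by
  obtain ⟨b1, h1, b2, h2, rfl⟩ := hg
  exact ⟨b1, h1, b2 * b, mul_mem h2 hb, by group⟩

theorem big_w : E.Big E.w := ⟨1, one_mem _, 1, one_mem _, by simp⟩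

theorem Big.inv {g : J} (hg : E.Big g) : E.Big g⁻¹ := by
  obtain ⟨b1, h1, b2, h2, rfl⟩ := hg
  exact ⟨b2⁻¹, inv_mem h2, (E.w ^ 2)⁻¹ * b1⁻¹, mul_mem (inv_mem E.w2_mem) (inv_mem h1), by group⟩

theorem big_shift {a : F} (h : E.Big (E.w * E.X a * E.w⁻¹)) (k : ℤ) :
    E.Big (E.w * E.X (c ^ k * a) * E.w⁻¹) := by
  have := (h.left (E.h_mem (-k))).right (inv_mem (E.h_mem (-k)))
  rw [← E.w_zpow] at this
  rw [← E.hX_zpow]
  convert this using 1
  group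

theorem big_neg {a : F} (h : E.Big (E.w * E.X a * E.w⁻¹)) : E.Big (E.w * E.X (-a) * E.w⁻¹) := by
  have := h.inv
  rw [E.add.neg]
  convert this using 1
  group

theorem big_one (h : (E.w * E.X 1) ^ 3 = 1) : E.Big (E.w * E.X 1 * E.w⁻¹) := by
  have := ((big_w.inv.left (inv_mem (E.X_mem 1))).right (inv_mem (E.X_mem 1))).right
    (inv_mem E.w2_mem)
  convert this using 1
  have e : E.w * E.X 1 * E.w⁻¹ = (E.w * E.X 1) ^ 3 * ((E.X 1)⁻¹ * E.w⁻¹ * (E.X 1)⁻¹ * (E.w ^ 2)⁻¹) := by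
    simp only [pow_succ, pow_zero]; group
  rw [e, h, one_mul]

theorem bruhat (hs : ∀ a, a ≠ 0 → E.Big (E.w * E.X a * E.w⁻¹))
    (hgen : ∀ H : Subgroup J, (∀ a, E.X a ∈ H) → E.h ∈ H → E.w ∈ H → H = ⊤) (g : J) :
    g ∈ E.B ∨ E.Big g := by
  have hw : ∀ g, (g ∈ E.B ∨ E.Big g) → (E.w * g ∈ E.B ∨ E.Big (E.w * g)) := by
    rintro g (hg | ⟨_, ⟨a, k, rfl⟩, b, hb, rfl⟩)
    · exact Or.inr (big_w.right hg)
    · have e : E.w * (E.X a * E.h ^ k * E.w * b) =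
          E.w * E.X a * E.w⁻¹ * (E.h ^ (-k) * E.w ^ 2 * b) := by rw [← E.w_zpow]; group
      have hb' : E.h ^ (-k) * E.w ^ 2 * b ∈ E.B := mul_mem (mul_mem (E.h_mem _) E.w2_mem) hb
      rw [e]
      by_cases ha : a = 0
      · left; rw [ha, E.add.zero]; simpa using hb'
      · exact Or.inr ((hs a ha).right hb')
  have hb : ∀ b ∈ E.B, ∀ g, (g ∈ E.B ∨ E.Big g) → (b * g ∈ E.B ∨ E.Big (b * g)) := by
    rintro b hb g (hg | hg)
    · exact Or.inl (mul_mem hb hg)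
    · exact Or.inr (hg.left hb)
  let H : Subgroup J :=
    { carrier := {x | ∀ g, (g ∈ E.B ∨ E.Big g) ↔ (x * g ∈ E.B ∨ E.Big (x * g))}
      one_mem' := fun g => by simp
      mul_mem' := fun {x y} hx hy g => by rw [mul_assoc, ← hx, ← hy]
      inv_mem' := fun {x} hx g => by rw [hx (x⁻¹ * g), mul_inv_cancel_left] }
  have hBH : ∀ b ∈ E.B, b ∈ H := fun b hb' g =>
    ⟨hb b hb' g, fun h => by simpa using hb b⁻¹ (inv_mem hb') _ h⟩
  have : H = ⊤ := hgen H (fun a => hBH _ (E.X_mem a)) (hBH _ (by simpa using E.h_mem 1))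
    (fun g => ⟨hw g, fun h => by
      have := hb _ (inv_mem E.w2_mem) _ (hw _ h)
      simpa [sq, mul_assoc] using this⟩)
  have hg : g ∈ H := this ▸ Subgroup.mem_top g
  simpa using (hg 1).1 (Or.inl (one_mem _))

end BD

section Model

variable {F : Type*} [Field F]

/-- `diag(ζ, ζ⁻¹)`. -/
def hm {ζ : F} (hζ : ζ ≠ 0) : Matrix.SpecialLinearGroup (Fin 2) F :=
  ⟨!![ζ, 0; 0, ζ⁻¹], by simp [Matrix.det_fin_two, hζ]⟩

/-- The Weyl element. -/
def wm (F : Type*) [Field F] : Matrix.SpecialLinearGroup (Fin 2) F :=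
  ⟨!![0, 1; -1, 0], by simp [Matrix.det_fin_two]⟩

theorem coe_hm {ζ : F} (hζ : ζ ≠ 0) :
    ((hm hζ : Matrix.SpecialLinearGroup (Fin 2) F) : Matrix (Fin 2) (Fin 2) F) =
      !![ζ, 0; 0, ζ⁻¹] := rfl

theorem coe_wm : ((wm F : Matrix.SpecialLinearGroup (Fin 2) F) : Matrix (Fin 2) (Fin 2) F) =
      !![0, 1; -1, 0] := rfl

theorem hm_mul {a b : F} (ha : a ≠ 0) (hb : b ≠ 0) : hm ha * hm hb = hm (mul_ne_zero ha hb) := by
  ext i j; fin_cases i <;> fin_cases j <;> simp [coe_hm, Matrix.mul_apply, Fin.sum_univ_two, mul_comm]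

theorem hm_one {a : F} (ha : a ≠ 0) (h : a = 1) : hm ha = 1 := by
  subst h; ext i j; fin_cases i <;> fin_cases j <;> simp [coe_hm]

theorem hm_zpow {ζ : F} (hζ : ζ ≠ 0) (k : ℤ) : hm hζ ^ k = hm (zpow_ne_zero k hζ) := by
  induction k using Int.induction_on with
  | zero => rw [zpow_zero, hm_one _ (zpow_zero _)]
  | succ k ih => rw [zpow_add_one, ih, hm_mul]; congr 1; rw [zpow_add_one₀ hζ]
  | pred k ih =>
    rw [zpow_sub_one, ih, mul_inv_eq_iff_eq_mul, hm_mul]; congr 1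
    rw [← zpow_add_one₀ hζ, sub_add_cancel]

theorem hm_pow {ζ : F} (hζ : ζ ≠ 0) (k : ℕ) : hm hζ ^ k = hm (pow_ne_zero k hζ) := by
  rw [← zpow_natCast, hm_zpow]; congr 1; rw [zpow_natCast]

theorem slx_isAdd : IsAdd (slx : F → _) := (sl F).x_add

theorem hm_slx {ζ : F} (hζ : ζ ≠ 0) (a : F) : hm hζ * slx a * (hm hζ)⁻¹ = slx (ζ ^ 2 * a) := by
  rw [mul_inv_eq_iff_eq_mul]
  ext i j; fin_cases i <;> fin_cases j <;>
    simp [coe_hm, coe_slx, Matrix.mul_apply, Fin.sum_univ_two]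
  field_simp

theorem wm_hm {ζ : F} (hζ : ζ ≠ 0) : wm F * hm hζ * (wm F)⁻¹ = (hm hζ)⁻¹ := by
  rw [mul_inv_eq_iff_eq_mul, eq_inv_mul_iff_mul_eq]
  ext i j; fin_cases i <;> fin_cases j <;>
    simp [coe_hm, coe_wm, Matrix.mul_apply, Fin.sum_univ_two, hζ]

theorem wm_sq : wm F ^ 2 = hm (neg_ne_zero.2 one_ne_zero) := by
  rw [sq]; ext i j; fin_cases i <;> fin_cases j <;>
    simp [coe_hm, coe_wm, Matrix.mul_apply, Fin.sum_univ_two]

theorem wm_slx (a : F) : wm F * slx a * (wm F)⁻¹ = sly (-a) := by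
  rw [mul_inv_eq_iff_eq_mul]
  ext i j; fin_cases i <;> fin_cases j <;>
    simp [coe_wm, coe_slx, coe_sly, Matrix.mul_apply, Fin.sum_univ_two]

theorem wm_cube : (wm F * slx 1) ^ 3 = 1 := by
  simp only [pow_succ, pow_zero, one_mul]
  ext i j; fin_cases i <;> fin_cases j <;>
    simp [coe_wm, coe_slx, Matrix.mul_apply, Fin.sum_univ_two]

theorem wm_second {ζ : F} (hζ : ζ ≠ 0) :
    wm F * slx ζ * (wm F)⁻¹ = slx (-ζ⁻¹) * (hm hζ)⁻¹ * wm F * slx (-ζ⁻¹) := by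
  have : (hm hζ)⁻¹ = hm (inv_ne_zero hζ) := by
    rw [inv_eq_iff_mul_eq_one, hm_mul, hm_one _ (mul_inv_cancel₀ hζ)]
  rw [wm_slx, this]
  ext i j; fin_cases i <;> fin_cases j <;>
    simp [coe_wm, coe_hm, coe_slx, coe_sly, Matrix.mul_apply, Fin.sum_univ_two, hζ]

theorem top_of_slx_wm (H : Subgroup (Matrix.SpecialLinearGroup (Fin 2) F)) (h1 : ∀ a, slx a ∈ H)
    (h2 : wm F ∈ H) : H = ⊤ := by
  rw [eq_top_iff, ← sl_closure F, Subgroup.closure_le]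
  rintro _ (⟨a, rfl⟩ | ⟨a, rfl⟩)
  · exact h1 a
  · have := H.mul_mem (H.mul_mem h2 (h1 (-a))) (H.inv_mem h2)
    rwa [wm_slx, neg_neg] at this

/-- Injectivity from the Bruhat decomposition. -/
theorem inj_of_bruhat {ζ : F} (hζ : ζ ≠ 0) {J G : Type*} [Group J] [Group G]
    (μ : Matrix.SpecialLinearGroup (Fin 2) F →* G) (hμ : ∀ g, μ g = 1 → g 0 1 = 0 ∧ g 1 0 = 0)
    (E : BD F J (ζ ^ 2)) (hs : ∀ a, a ≠ 0 → E.Big (E.w * E.X a * E.w⁻¹))
    (hgen : ∀ H : Subgroup J, (∀ a, E.X a ∈ H) → E.h ∈ H → E.w ∈ H → H = ⊤)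
    (π : J →* G) (h1 : ∀ a, π (E.X a) = μ (slx a)) (h2 : π E.h = μ (hm hζ))
    (h3 : π E.w = μ (wm F)) (hk : ∀ k : ℤ, μ (hm hζ ^ k) = 1 → E.h ^ k = 1) :
    Function.Injective π := by
  rw [injective_iff_map_eq_one]
  intro g hg
  have hB : ∀ a (k : ℤ), π (E.X a * E.h ^ k) = μ (slx a * hm hζ ^ k) := fun a k => by
    rw [map_mul, map_mul, map_zpow, map_zpow, h1, h2]
  rcases BD.bruhat hs hgen g with ⟨a, k, rfl⟩ | ⟨_, ⟨a, k, rfl⟩, _, ⟨b, l, rfl⟩, rfl⟩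
  · rw [hB] at hg
    have e := (hμ _ hg).1
    rw [hm_zpow] at e
    have ha : a = 0 := by
      simpa [coe_hm, coe_slx, Matrix.mul_apply, Fin.sum_univ_two, zpow_ne_zero k hζ] using e
    subst ha
    rw [(slx_isAdd (F := F)).zero, one_mul] at hg
    rw [E.add.zero, one_mul, hk k hg]
  · rw [map_mul, map_mul, hB, hB, h3, ← map_mul, ← map_mul] at hg
    have e := (hμ _ hg).2
    rw [hm_zpow, hm_zpow] at e
    simp [coe_hm, coe_wm, coe_slx, Matrix.mul_apply, Fin.sum_univ_two, zpow_ne_zero _ hζ] at e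

theorem ker_id (g : Matrix.SpecialLinearGroup (Fin 2) F) (h : MonoidHom.id _ g = 1) :
    g 0 1 = 0 ∧ g 1 0 = 0 := by
  obtain rfl : g = 1 := h
  simp

theorem ker_mk (g : Matrix.SpecialLinearGroup (Fin 2) F)
    (h : QuotientGroup.mk' (Subgroup.center _) g = 1) :
    g 0 1 = 0 ∧ g 1 0 = 0 ∧ g 0 0 = g 1 1 := by
  have h' : g ∈ Subgroup.center _ := (QuotientGroup.eq_one_iff _).1 h
  obtain ⟨r, -, hr⟩ := Matrix.SpecialLinearGroup.mem_center_iff.1 h'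
  have : ∀ i j, g i j = Matrix.scalar (Fin 2) r i j := fun i j => by rw [hr]
  simp [this]

end Model

/-- A second element acting on the module. -/
theorem LD.equivariant {p : ℕ} {F : Type*} [Field F] {α : F} (D : LD p α) {J : Type*}
    [Group J] {X : F → J} {t s : J} (h1 : IsAdd X) (h2 : ∀ a, t * X a * t⁻¹ = X (α * a))
    (hst : Commute s t) {c : F} (hs : s * X 1 * s⁻¹ = X c) (a : F) :
    s * X a * s⁻¹ = X (c * a) := by
  refine (h1.conj _).ext (h1.comp_mul c) D.span ?_ a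
  rintro _ ⟨m, -, rfl⟩
  have e1 := cj_model h2 1 m
  have e2 := cj_model h2 c m
  rw [mul_one] at e1
  rw [mul_comm c, ← e1, ← e2, conj_cj, hs, hst.eq, mul_inv_cancel_right]

end H77.Pres
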