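import Cfsg.Agent.Lib.Pres.Torus

/-!
# Presentations of `SL_n(F)` over a doubly transitive group of monomial matrices
-/

set_option autoImplicit false

open scoped commutatorElement

namespace H77.Pres

open H63.St H63.St.SL H40 Monoid

/-- A doubly transitive action with a base pair, generators of its stabiliser and a
third-index function. -/
structure Fr (P Ω : Type*) [Group P] where
  /-- the action -/
  ρ : P →* Equiv.Perm Ω
  /-- first base point -/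
  o1 : Ω
  /-- second base point -/
  o2 : Ω
  ne : o1 ≠ o2
  /-- transversal -/
  sel : Ω → Ω → P
  sel1 : ∀ i j, i ≠ j → ρ (sel i j) o1 = i
  sel2 : ∀ i j, i ≠ j → ρ (sel i j) o2 = j
  /-- generators of the stabiliser -/
  K : List P
  stab : ∀ g, ρ g o1 = o1 → ρ g o2 = o2 → g ∈ Subgroup.closure {k | k ∈ K}
  fix : ∀ k ∈ K, ρ k o1 = o1 ∧ ρ k o2 = o2
  /-- a third index -/
  th : Ω → Ω → Ω
  th1 : ∀ i j, th i j ≠ i
  th2 : ∀ i j, th i j ≠ j

namespace Fr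

variable {P Ω : Type*} [Group P] (Φ : Fr P Ω) {J : Type*} [Group J]

/-- The conjugate of `u` at the pair `(i, j)`. -/
def cw (f : P →* J) (u : J) (i j : Ω) : J := f (Φ.sel i j) * u * (f (Φ.sel i j))⁻¹

theorem map_cw {J' : Type*} [Group J'] (φ : J →* J') (f : P →* J) (u : J) (i j : Ω) :
    φ (Φ.cw f u i j) = Φ.cw (φ.comp f) (φ u) i j := by simp [cw]

theorem comm_stab {f : P →* J} {u : J} (hu : ∀ k ∈ Φ.K, Commute (f k) u) {g : P}
    (h1 : Φ.ρ g Φ.o1 = Φ.o1) (h2 : Φ.ρ g Φ.o2 = Φ.o2) : Commute (f g) u := by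
  have : Subgroup.closure {k | k ∈ Φ.K} ≤ (Subgroup.centralizer {u}).comap f := by
    rw [Subgroup.closure_le]
    exact fun k hk => Subgroup.mem_centralizer_singleton_iff.2 (hu k hk)
  exact Subgroup.mem_centralizer_singleton_iff.1 (this (Φ.stab g h1 h2))

theorem cw_eq {f : P →* J} {u : J} (hu : ∀ k ∈ Φ.K, Commute (f k) u) (g : P) :
    Φ.cw f u (Φ.ρ g Φ.o1) (Φ.ρ g Φ.o2) = f g * u * (f g)⁻¹ := by
  have hne : Φ.ρ g Φ.o1 ≠ Φ.ρ g Φ.o2 := (Φ.ρ g).injective.ne Φ.ne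
  have := Φ.comm_stab hu (g := g⁻¹ * Φ.sel (Φ.ρ g Φ.o1) (Φ.ρ g Φ.o2))
    (by rw [map_mul, Equiv.Perm.mul_apply, Φ.sel1 _ _ hne]; simp)
    (by rw [map_mul, Equiv.Perm.mul_apply, Φ.sel2 _ _ hne]; simp)
  rw [map_mul, map_inv] at this
  unfold cw
  generalize f (Φ.sel (Φ.ρ g Φ.o1) (Φ.ρ g Φ.o2)) = s at this
  calc s * u * s⁻¹ = f g * ((f g)⁻¹ * s * u) * s⁻¹ := by group
    _ = _ := by rw [this.eq]; group

theorem cw_base {f : P →* J} {u : J} (hu : ∀ k ∈ Φ.K, Commute (f k) u) :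
    Φ.cw f u Φ.o1 Φ.o2 = u := by simpa using Φ.cw_eq hu 1

theorem cw_conj {f : P →* J} {u : J} (hu : ∀ k ∈ Φ.K, Commute (f k) u) (g : P) {i j : Ω}
    (h : i ≠ j) : MulAut.conj (f g) (Φ.cw f u i j) = Φ.cw f u (Φ.ρ g i) (Φ.ρ g j) := by
  have := Φ.cw_eq hu (g * Φ.sel i j)
  rw [map_mul, Equiv.Perm.mul_apply, Equiv.Perm.mul_apply, Φ.sel1 _ _ h, Φ.sel2 _ _ h] at this
  rw [this, cw, map_mul f, MulAut.conj_apply]; group

variable [DecidableEq Ω]

/-- The torus elements. -/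
def hw (f : P →* J) (h : J) (i j : Ω) : J := if i = j then 1 else Φ.cw f h i j

theorem map_hw {J' : Type*} [Group J'] (φ : J →* J') (f : P →* J) (h : J) (i j : Ω) :
    φ (Φ.hw f h i j) = Φ.hw (φ.comp f) (φ h) i j := by
  unfold hw; split_ifs <;> simp [map_cw]

theorem hw_self (f : P →* J) (h : J) (i : Ω) : Φ.hw f h i i = 1 := if_pos rfl

theorem hw_conj {f : P →* J} {h : J} (hh : ∀ k ∈ Φ.K, Commute (f k) h) (g : P) (i j : Ω) :
    MulAut.conj (f g) (Φ.hw f h i j) = Φ.hw f h (Φ.ρ g i) (Φ.ρ g j) := by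
  by_cases e : i = j
  · subst e; simp [hw]
  · rw [hw, hw, if_neg e, if_neg ((Φ.ρ g).injective.ne e), Φ.cw_conj hh g e]

theorem hw_base {f : P →* J} {h : J} (hh : ∀ k ∈ Φ.K, Commute (f k) h) :
    Φ.hw f h Φ.o1 Φ.o2 = h := by rw [hw, if_neg Φ.ne, Φ.cw_base hh]

/-- The words for `x_ij(ζ ^ m)`. -/
def ww (f : P →* J) (u h : J) (i j : Ω) (m : ℤ) : J :=
  Φ.hw f h i (Φ.th i j) ^ m * Φ.cw f u i j * (Φ.hw f h i (Φ.th i j) ^ m)⁻¹

theorem map_ww {J' : Type*} [Group J'] (φ : J →* J') (f : P →* J) (u h : J) (i j : Ω) (m : ℤ) :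
    φ (Φ.ww f u h i j m) = Φ.ww (φ.comp f) (φ u) (φ h) i j m := by
  simp [ww, map_hw, map_cw]

/-- The subgroup generated by the root words. -/
def NN (f : P →* J) (u h : J) : Subgroup J :=
  Subgroup.closure {x | ∃ i j m, i ≠ j ∧ Φ.ww f u h i j m = x}

theorem map_NN {J' : Type*} [Group J'] (φ : J →* J') (f : P →* J) (u h : J) :
    (Φ.NN f u h).map φ = Φ.NN (φ.comp f) (φ u) (φ h) := by
  unfold NN
  rw [MonoidHom.map_closure]
  congr 1
  ext x
  constructor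
  · rintro ⟨_, ⟨i, j, m, hij, rfl⟩, rfl⟩; exact ⟨i, j, m, hij, (Φ.map_ww φ f u h i j m).symm⟩
  · rintro ⟨i, j, m, hij, rfl⟩; exact ⟨_, ⟨i, j, m, hij, rfl⟩, Φ.map_ww φ f u h i j m⟩

/-- Torus data from the relations between distinct indices. -/
def td (f : P →* J) (u h : J)
    (inv : ∀ i j, i ≠ j → Φ.hw f h j i * Φ.hw f h i j = 1)
    (mul : ∀ i j k, i ≠ j → j ≠ k → i ≠ k → Φ.hw f h i j * Φ.hw f h j k = Φ.hw f h i k)
    (comm : ∀ i j k, i ≠ j → j ≠ k → i ≠ k → Commute (Φ.hw f h i j) (Φ.hw f h i k))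
    (c0 : ∀ i j k l, i ≠ j → k ≠ i → k ≠ j → l ≠ i → l ≠ j → k ≠ l →
      Commute (Φ.hw f h k l) (Φ.cw f u i j))
    (c1 : ∀ i j k, i ≠ j → k ≠ i → k ≠ j →
      Commute (Φ.hw f h i k * Φ.hw f h j k) (Φ.cw f u i j)) : TD Ω J :=
  have mul' : ∀ i j k, Φ.hw f h i j * Φ.hw f h j k = Φ.hw f h i k := fun i j k => by
    by_cases h1 : i = j
    · subst h1; rw [hw_self, one_mul]
    by_cases h2 : j = k
    · subst h2; rw [hw_self, mul_one]
    by_cases h3 : i = k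
    · subst h3; rw [hw_self]; exact inv j i h2
    exact mul i j k h1 h2 h3
  have comm' : ∀ i j k, Commute (Φ.hw f h i j) (Φ.hw f h i k) := fun i j k => by
    by_cases h1 : i = j
    · subst h1; rw [hw_self]; exact Commute.one_left _
    by_cases h2 : j = k
    · subst h2; exact Commute.refl _
    by_cases h3 : i = k
    · subst h3; rw [hw_self]; exact Commute.one_right _
    exact comm i j k h1 h2 h3
  { U := Φ.cw f u
    H := Φ.hw f h
    th := Φ.th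
    th1 := Φ.th1
    th2 := Φ.th2
    mul := mul'
    comm := fun i j k l => by
      have e : Φ.hw f h k i = (Φ.hw f h i k)⁻¹ := by
        rw [eq_inv_iff_mul_eq_one, mul', hw_self]
      rw [← mul' k i l, e]
      exact (comm' i j k).inv_right.mul_right (comm' i j l)
    c0 := fun i j k l h1 h2 h3 h4 h5 => by
      by_cases h6 : k = l
      · subst h6; rw [hw_self]; exact Commute.one_left _
      exact c0 i j k l h1 h2 h3 h4 h5 h6
    c1 := c1 }

end Fr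

section Model

variable {Ω F : Type*} [Fintype Ω] [DecidableEq Ω] [Field F]

/-- `diag(ζ at i, ζ⁻¹ at j)`. -/
def hd {ζ : F} (hζ : ζ ≠ 0) (i j : Ω) : Matrix.SpecialLinearGroup Ω F :=
  if h : i ≠ j then dg (d2 i j ζ) (prod_d2 h hζ) else 1

theorem coe_hd {ζ : F} (hζ : ζ ≠ 0) (i j : Ω) :
    (hd hζ i j).1 = Matrix.diagonal (fun a => ζ ^ ep i j a) := by
  unfold hd
  split_ifs with h
  · change Matrix.diagonal _ = _
    congr 1; ext a
    by_cases h1 : a = i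
    · subst h1; simp [d2, ep, h]
    by_cases h2 : a = j
    · subst h2; simp [d2, ep, h1]
    simp [d2, ep, h1, h2]
  · obtain rfl : i = j := not_not.1 h
    simp [ep]

theorem hd_mul {ζ : F} (hζ : ζ ≠ 0) (i j k : Ω) : hd hζ i j * hd hζ j k = hd hζ i k := by
  refine Subtype.ext ?_
  rw [Matrix.SpecialLinearGroup.coe_mul, coe_hd, coe_hd, coe_hd, Matrix.diagonal_mul_diagonal]
  congr 1; ext a
  rw [← zpow_add₀ hζ]; congr 1; simp only [ep]; ring

theorem hd_self {ζ : F} (hζ : ζ ≠ 0) (i : Ω) : hd hζ i i = 1 := by simp [hd]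

theorem hd_comm {ζ : F} (hζ : ζ ≠ 0) (i j k l : Ω) : Commute (hd hζ i j) (hd hζ k l) := by
  refine Subtype.ext ?_
  rw [Matrix.SpecialLinearGroup.coe_mul, Matrix.SpecialLinearGroup.coe_mul, coe_hd, coe_hd,
    Matrix.diagonal_mul_diagonal, Matrix.diagonal_mul_diagonal]
  congr 1; ext a; ring

theorem hd_conj {ζ : F} (hζ : ζ ≠ 0) (k l : Ω) {i j : Ω} (h : i ≠ j) (t : F) :
    hd hζ k l * tv i j t * (hd hζ k l)⁻¹ = tv i j (ζ ^ (ep i j k - ep i j l) * t) := by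
  by_cases e : k = l
  · subst e; simp [hd_self]
  rw [hd, dif_pos e, dg_conj _ h]
  congr 2
  have : ∀ a, d2 k l ζ a = ζ ^ ep k l a := fun a => by
    by_cases h1 : a = k
    · subst h1; simp [d2, ep, e]
    by_cases h2 : a = l
    · subst h2; simp [d2, ep, h1]
    simp [d2, ep, h1, h2]
  rw [this, this, ← zpow_neg, ← zpow_add₀ hζ]
  congr 1
  simp only [ep, eq_comm]; ring

theorem hd_zpow_conj {ζ : F} (hζ : ζ ≠ 0) {i j k : Ω} (h : i ≠ j) (h1 : k ≠ i) (h2 : k ≠ j)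
    (m : ℤ) (t : F) : hd hζ i k ^ m * tv i j t * (hd hζ i k ^ m)⁻¹ = tv i j (ζ ^ m * t) := by
  induction m using Int.induction_on generalizing t with
  | zero => simp
  | succ m ih =>
    rw [zpow_add_one, mul_inv_rev, mul_assoc (hd hζ i k ^ (m : ℤ)),
      mul_assoc (hd hζ i k ^ (m : ℤ)), ← mul_assoc (hd hζ i k * _), hd_conj hζ _ _ h,
      ← mul_assoc, ih, zpow_add_one₀ hζ]
    simp [ep, h, h1, h2, mul_assoc]
  | pred m ih =>
    have e : (hd hζ i k)⁻¹ = hd hζ k i := by rw [inv_eq_iff_mul_eq_one, hd_mul, hd_self]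
    rw [zpow_sub_one, mul_inv_rev, mul_assoc (hd hζ i k ^ (-m : ℤ)),
      mul_assoc (hd hζ i k ^ (-m : ℤ)), ← mul_assoc ((hd hζ i k)⁻¹ * _), e, hd_conj hζ _ _ h,
      ← mul_assoc, ih, zpow_sub_one₀ hζ]
    simp [ep, h, h1, h2, mul_assoc]

/-- Monomial matrices with constant entries. -/
def Mono (A : Matrix.SpecialLinearGroup Ω F) (σ : Equiv.Perm Ω) : Prop :=
  ∃ c : F, ∀ a b, A.1 a b = if a = σ b then c else 0

theorem Mono.conj {A : Matrix.SpecialLinearGroup Ω F} {σ : Equiv.Perm Ω} (h : Mono A σ)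
    {M M' : Matrix.SpecialLinearGroup Ω F} (hM : ∀ a b, M'.1 (σ a) (σ b) = M.1 a b) :
    A * M * A⁻¹ = M' := by
  obtain ⟨c, hc⟩ := h
  rw [mul_inv_eq_iff_eq_mul]
  refine Subtype.ext ?_
  ext a b
  obtain ⟨a, rfl⟩ := σ.surjective a
  simp only [Matrix.SpecialLinearGroup.coe_mul, Matrix.mul_apply, hc]
  simp [hM, mul_comm]

theorem Mono.tv {A : Matrix.SpecialLinearGroup Ω F} {σ : Equiv.Perm Ω} (h : Mono A σ)
    {i j : Ω} (hij : i ≠ j) (t : F) : A * tv i j t * A⁻¹ = tv (σ i) (σ j) t :=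
  h.conj fun a b => by
    simp [coe_tv hij, coe_tv (σ.injective.ne hij), Matrix.one_apply, Matrix.single_apply]

theorem Mono.hd {A : Matrix.SpecialLinearGroup Ω F} {σ : Equiv.Perm Ω} (h : Mono A σ)
    {ζ : F} (hζ : ζ ≠ 0) (i j : Ω) : A * hd hζ i j * A⁻¹ = hd hζ (σ i) (σ j) :=
  h.conj fun a b => by
    simp [coe_hd, Matrix.diagonal_apply, ep]

variable {P : Type*} [Group P] (Φ : Fr P Ω) {f : P →* Matrix.SpecialLinearGroup Ω F}
  (hf : ∀ g, Mono (f g) (Φ.ρ g))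
include hf

theorem cw_tv {i j : Ω} (h : i ≠ j) (t : F) : Φ.cw f (tv Φ.o1 Φ.o2 t) i j = tv i j t := by
  rw [Fr.cw, (hf _).tv Φ.ne, Φ.sel1 _ _ h, Φ.sel2 _ _ h]

theorem hw_hd {ζ : F} (hζ : ζ ≠ 0) (i j : Ω) : Φ.hw f (hd hζ Φ.o1 Φ.o2) i j = hd hζ i j := by
  unfold Fr.hw
  split_ifs with h
  · subst h; rw [hd_self]
  · rw [Fr.cw, (hf _).hd, Φ.sel1 _ _ h, Φ.sel2 _ _ h]

theorem ww_model {ζ : F} (hζ : ζ ≠ 0) {i j : Ω} (h : i ≠ j) (m : ℤ) :
    Φ.ww f (tv Φ.o1 Φ.o2 1) (hd hζ Φ.o1 Φ.o2) i j m = tv i j (ζ ^ m) := by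
  rw [Fr.ww, hw_hd Φ hf, cw_tv Φ hf h, hd_zpow_conj hζ h (Φ.th1 i j) (Φ.th2 i j), mul_one]

theorem NN_model {ζ : F} (hζ0 : ζ ≠ 0) (hζ : ∀ a : F, a ≠ 0 → ∃ m : ℕ, ζ ^ m = a) :
    Φ.NN f (tv Φ.o1 Φ.o2 1) (hd hζ0 Φ.o1 Φ.o2) = ⊤ := by
  refine H10.SL_eq_top_of_transvection_mem _ fun i j h c => ?_
  rw [← tv_eq h]
  by_cases hc : c = 0
  · have := (st Ω F).x_zero h
    subst hc
    rw [show tv i j (0 : F) = 1 from this]; exact one_mem _
  · obtain ⟨m, rfl⟩ := hζ c hc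
    exact Subgroup.subset_closure ⟨i, j, m, h, by rw [ww_model Φ hf hζ0 h, zpow_natCast]⟩

end Model

/-- Evaluation of words in `P ∗ F(u, h)`. -/
abbrev ev {P J : Type*} [Group P] [Group J] (f : P →* J) (u h : J) :
    Coprod P (FreeGroup (Fin 2)) →* J := Coprod.lift f (FreeGroup.lift ![u, h])

/-- The generator `u`. -/
abbrev gu {P : Type*} [Group P] : Coprod P (FreeGroup (Fin 2)) := Coprod.inr (FreeGroup.of 0)

/-- The generator `h`. -/
abbrev gh {P : Type*} [Group P] : Coprod P (FreeGroup (Fin 2)) := Coprod.inr (FreeGroup.of 1)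

/-- The base group. -/
abbrev gp {P : Type*} [Group P] : P →* Coprod P (FreeGroup (Fin 2)) := Coprod.inl

theorem ev_u {P J : Type*} [Group P] [Group J] (f : P →* J) (u h : J) : ev f u h gu = u := by simp

theorem ev_h {P J : Type*} [Group P] [Group J] (f : P →* J) (u h : J) : ev f u h gh = h := by simp

theorem ev_inl {P J : Type*} [Group P] [Group J] (f : P →* J) (u h : J) :
    (ev f u h).comp gp = f := by ext; simp

theorem conj_mem_of_closure' {J : Type*} [Group J] (T : Set J) (K : Subgroup J) (g : J)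
    (h : ∀ t ∈ T, g * t * g⁻¹ ∈ K) : ∀ n ∈ Subgroup.closure T, g * n * g⁻¹ ∈ K := by
  intro n hn
  have : Subgroup.closure T ≤ K.comap (MulAut.conj g).toMonoidHom := by
    rw [Subgroup.closure_le]; exact h
  exact this hn

theorem mem_normalizer_of_conj {J : Type*} [Group J] (N : Subgroup J) (g : J)
    (h1 : ∀ n ∈ N, g * n * g⁻¹ ∈ N) (h2 : ∀ n ∈ N, g⁻¹ * n * g⁻¹⁻¹ ∈ N) :
    g ∈ Subgroup.normalizer (N : Set J) := by
  rw [Subgroup.mem_normalizer_iff]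
  refine fun n => ⟨h1 n, fun hn => ?_⟩
  have := h2 _ hn
  simpa [mul_assoc] using this

/-- The general presentation theorem. -/
theorem pr_of_rel {P : Type} [Group P] {ι : Type} {gP : ι → P} {r : ℕ} (hP : Pr gP r)
    {m : ℕ} (hm : 2 ≤ m) (Φ : Fr P (Fin (m + 1))) {F : Type*} [Field F] [Finite F]
    {ζ : F} (hζ0 : ζ ≠ 0) (hζ : ∀ a : F, a ≠ 0 → ∃ m : ℕ, ζ ^ m = a)
    (f : P →* Matrix.SpecialLinearGroup (Fin (m + 1)) F) (hf : ∀ g, Mono (f g) (Φ.ρ g))
    (Z : List P) (hZ : Subgroup.normalClosure {z | z ∈ Z} = ⊤)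
    (R : List (Coprod P (FreeGroup (Fin 2))))
    (hR : ∀ w ∈ R, ev f (tv Φ.o1 Φ.o2 1) (hd hζ0 Φ.o1 Φ.o2) w = 1)
    (hJ : ∀ (J : Type) [Group J] (fJ : P →* J) (u h : J), (∀ k ∈ Φ.K, Commute (fJ k) u) →
      (∀ k ∈ Φ.K, Commute (fJ k) h) → (∀ w ∈ R, ev fJ u h w = 1) →
      ∃ T : TD (Fin (m + 1)) J, T.U = Φ.cw fJ u ∧ T.H = Φ.hw fJ h ∧ T.th = Φ.th ∧
        ∃ S : PreStA (Fin (m + 1)) F J, ∀ i j, i ≠ j → ∀ a : ℤ, S.x i j (ζ ^ a) = T.W i j a) :
    ∃ g : ι ⊕ Fin 2 → Matrix.SpecialLinearGroup (Fin (m + 1)) F,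
      Pr g (r + (2 * Φ.K.length + R.length + Z.length)) := by
  have hw : ∀ z : P, ∃ w ∈ Φ.NN gp gu gh,
      ev f (tv Φ.o1 Φ.o2 1) (hd hζ0 Φ.o1 Φ.o2) w = f z := fun z => by
    have : f z ∈ (Φ.NN gp gu gh).map
        (ev f (tv Φ.o1 Φ.o2 1) (hd hζ0 Φ.o1 Φ.o2)) := by
      rw [Φ.map_NN, ev_inl, ev_u, ev_h, NN_model Φ hf hζ0 hζ]; trivial
    exact this
  choose w hw1 hw2 using hw
  have := hP.ext f ![tv Φ.o1 Φ.o2 1, hd hζ0 Φ.o1 Φ.o2]
    (Φ.K.map (fun k => ⁅gp k, gu (P := P)⁆) ++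
      Φ.K.map (fun k => ⁅gp k, gh (P := P)⁆) ++ R ++
      Z.map (fun z => gp z * (w z)⁻¹)) ?_ ?_ ?_
  · exact ⟨_, this.mono (by simp; omega)⟩
  · rw [eq_top_iff, ← NN_model Φ hf hζ0 hζ, Fr.NN, Subgroup.closure_le]
    rintro _ ⟨i, j, a, h, rfl⟩
    set H := f.range ⊔ Subgroup.closure (Set.range ![tv Φ.o1 Φ.o2 1, hd hζ0 Φ.o1 Φ.o2])
    have h1 : ∀ g, f g ∈ H := fun g => Subgroup.mem_sup_left ⟨g, rfl⟩
    have h2 : tv Φ.o1 Φ.o2 1 ∈ H := Subgroup.mem_sup_right (Subgroup.subset_closure ⟨0, rfl⟩)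
    have h3 : hd hζ0 Φ.o1 Φ.o2 ∈ H := Subgroup.mem_sup_right (Subgroup.subset_closure ⟨1, rfl⟩)
    have h4 : ∀ x ∈ H, ∀ i j, Φ.cw f x i j ∈ H := fun x hx i j =>
      H.mul_mem (H.mul_mem (h1 _) hx) (H.inv_mem (h1 _))
    have h5 : Φ.hw f (hd hζ0 Φ.o1 Φ.o2) i (Φ.th i j) ^ a ∈ H := by
      refine H.zpow_mem ?_ _
      unfold Fr.hw; split_ifs
      · exact H.one_mem
      · exact h4 _ h3 _ _
    exact H.mul_mem (H.mul_mem h5 (h4 _ h2 _ _)) (H.inv_mem h5)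
  · intro x hx
    simp only [List.mem_append, List.mem_map] at hx
    rcases hx with ((⟨k, hk, rfl⟩ | ⟨k, hk, rfl⟩) | hx) | ⟨z, -, rfl⟩
    · have := (hf k).tv Φ.ne (1 : F)
      rw [(Φ.fix k hk).1, (Φ.fix k hk).2] at this
      simp [commutatorElement_def, this]
    · have := (hf k).hd hζ0 Φ.o1 Φ.o2
      rw [(Φ.fix k hk).1, (Φ.fix k hk).2] at this
      simp [commutatorElement_def, this]
    · exact hR x hx
    · rw [map_mul, map_inv, hw2]; simp
  · intro J _ fJ j π hπf hπj hgen hrel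
    obtain ⟨u, h, rfl⟩ : ∃ u h, j = ![u, h] := ⟨j 0, j 1, by ext i; fin_cases i <;> rfl⟩
    have hu : ∀ k ∈ Φ.K, Commute (fJ k) u := fun k hk => by
      have := hrel ⁅gp k, gu (P := P)⁆ (by simp only [List.mem_append, List.mem_map]; grind)
      rw [map_commutatorElement, commutatorElement_eq_one_iff_commute] at this
      simpa using this
    have hh : ∀ k ∈ Φ.K, Commute (fJ k) h := fun k hk => by
      have := hrel ⁅gp k, gh (P := P)⁆ (by simp only [List.mem_append, List.mem_map]; grind)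
      rw [map_commutatorElement, commutatorElement_eq_one_iff_commute] at this
      simpa using this
    obtain ⟨T, hU, hH, hth, S, hS⟩ := hJ J fJ u h hu hh
      (fun x hx => hrel x (by simp only [List.mem_append]; grind))
    have hW : ∀ i j a, T.W i j a = Φ.ww fJ u h i j a := fun i j a => by
      rw [TD.W, hU, hH, hth, Fr.ww]
    have hπc : π.comp fJ = f := MonoidHom.ext hπf
    have hπu : π u = tv Φ.o1 Φ.o2 1 := hπj 0
    have hπh : π h = hd hζ0 Φ.o1 Φ.o2 := hπj 1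
    set N := Φ.NN fJ u h with hN
    have hWN : ∀ i j a, i ≠ j → T.W i j a ∈ N := fun i j a e =>
      Subgroup.subset_closure ⟨i, j, a, e, (hW i j a).symm⟩
    have conjN : ∀ g : J, (∀ i j a, i ≠ j → g * T.W i j a * g⁻¹ ∈ N) → ∀ n ∈ N, g * n * g⁻¹ ∈ N :=
      fun g hg => conj_mem_of_closure' _ N g (by
        rintro _ ⟨i, j, a, e, rfl⟩; rw [← hW]; exact hg i j a e)
    have c1 : ∀ g, ∀ n ∈ N, fJ g * n * (fJ g)⁻¹ ∈ N := fun g => conjN _ fun i j a e => by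
      have e1 := T.W_eq ((Φ.ρ g).injective.ne e) ((Φ.ρ g).injective.ne (T.th1 i j))
        ((Φ.ρ g).injective.ne (T.th2 i j)) a
      have e2 : MulAut.conj (fJ g) (T.W i j a) = T.W (Φ.ρ g i) (Φ.ρ g j) a := by
        rw [← e1, TD.W, hU, hH]
        simp only [map_mul, map_inv, map_zpow, Φ.cw_conj hu g e, Φ.hw_conj hh g]
      rw [MulAut.conj_apply] at e2
      rw [e2]; exact hWN _ _ _ ((Φ.ρ g).injective.ne e)
    have c2 : ∀ k l, ∀ n ∈ N, T.H k l * n * (T.H k l)⁻¹ ∈ N := fun k l => conjN _ fun i j a e => by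
      rw [T.shift e]; exact hWN _ _ _ e
    have huN : u ∈ N := by
      have := hWN Φ.o1 Φ.o2 0 Φ.ne
      rwa [T.W_zero, hU, Φ.cw_base hu] at this
    have hh1 : T.H Φ.o1 Φ.o2 = h := by rw [hH, Φ.hw_base hh]
    have hnorm : N.Normal := by
      rw [← Subgroup.normalizer_eq_top_iff, eq_top_iff, ← hgen, sup_le_iff, Subgroup.closure_le]
      refine ⟨?_, ?_⟩
      · rintro _ ⟨g, rfl⟩
        refine mem_normalizer_of_conj N _ (c1 g) (fun n hn => ?_)
        have := c1 g⁻¹ n hn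
        rwa [map_inv] at this
      · rintro _ ⟨i, rfl⟩
        fin_cases i
        · exact Subgroup.le_normalizer huN
        · refine mem_normalizer_of_conj N _ (hh1 ▸ c2 _ _) (fun n hn => ?_)
          have := c2 Φ.o2 Φ.o1 n hn
          rw [← T.H_inv, hh1] at this
          exact this
    have hfN : ∀ g, fJ g ∈ N := fun g => by
      have : Subgroup.normalClosure {z | z ∈ Z} ≤ N.comap fJ := by
        refine Subgroup.normalClosure_le_normal (fun z hz => ?_)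
        have e := hrel (gp z * (w z)⁻¹)
          (by simp only [List.mem_append, List.mem_map]; exact Or.inr ⟨z, hz, rfl⟩)
        rw [map_mul, map_inv, mul_inv_eq_one] at e
        have e2 : ev fJ u h (w z) ∈ N := by
          have := Subgroup.mem_map_of_mem (ev fJ u h) (hw1 z)
          rwa [Φ.map_NN, ev_inl, ev_u, ev_h] at this
        change fJ z ∈ N
        rw [← e] at e2
        simpa using e2
      exact this (hZ ▸ Subgroup.mem_top g)
    have hhN : h ∈ N := by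
      have e : ∀ i j, i ≠ j → QuotientGroup.mk' N (T.H i j) = QuotientGroup.mk' N h := by
        intro i j e
        rw [hH, Fr.hw, if_neg e, Fr.cw, map_mul, map_mul, map_inv,
          show QuotientGroup.mk' N (fJ (Φ.sel i j)) = 1 from (QuotientGroup.eq_one_iff _).2 (hfN _)]
        simp
      have e2 := congrArg (QuotientGroup.mk' N) (T.mul Φ.o1 Φ.o2 (T.th Φ.o1 Φ.o2))
      rw [map_mul, e _ _ Φ.ne, e _ _ (T.th2 _ _).symm, e _ _ (T.th1 _ _).symm] at e2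
      exact (QuotientGroup.eq_one_iff _).1 (mul_eq_left.1 e2)
    refine injective_of_pre hm S (fun H hH' => ?_) (fun i j e t => ?_)
    · have h1 : N ≤ H := by
        rw [hN, Fr.NN, Subgroup.closure_le]
        rintro _ ⟨i, j, a, e, rfl⟩
        rw [← hW, ← hS i j e]; exact hH' i j e _
      rw [eq_top_iff, ← hgen, sup_le_iff, Subgroup.closure_le]
      refine ⟨?_, ?_⟩
      · rintro _ ⟨g, rfl⟩; exact h1 (hfN g)
      · rintro _ ⟨i, rfl⟩
        fin_cases i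
        · exact h1 huN
        · exact h1 hhN
    · by_cases ht : t = 0
      · subst ht
        rw [S.x_zero e, map_one]; exact ((st _ F).x_zero e).symm
      · obtain ⟨a, rfl⟩ := hζ t ht
        rw [← zpow_natCast, hS i j e, hW, Φ.map_ww, hπc, hπu, hπh, ww_model Φ hf hζ0 e]

end H77.Pres
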