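import Cfsg.Agent.Base
import Cfsg.Agent.Lib.Pres.Basic

/-!
# The module trick (one minimal-polynomial relation)

`LD p ζ`: coordinates of a finite field of characteristic `p` in the power basis of `ζ`.
`D.wd θ a` is the word `∏ θ m ^ (c a m)`.  If `θ m = t ^ m u t ^ (-m)`, the first `d` of them
commute, `u ^ p = 1` and the one relation `θ d = D.wd θ (ζ ^ d)` holds, then `D.wd θ` is additive,
is intertwined by `t` with multiplication by `ζ` and takes `ζ ^ m` to `θ m`.
-/

set_option autoImplicit false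

namespace H77.Pres

/-- Additive maps from an additive group to a group. -/
def IsAdd {F J : Type*} [Add F] [Mul J] (X : F → J) : Prop := ∀ a b, X (a + b) = X a * X b

section IsAdd
variable {F J : Type*} [AddCommGroup F] [Group J] {X : F → J}

theorem IsAdd.zero (h : IsAdd X) : X 0 = 1 := by
  have := h 0 0
  rw [add_zero] at this
  exact mul_eq_left.mp this.symm

theorem IsAdd.neg (h : IsAdd X) (a : F) : X (-a) = (X a)⁻¹ := by
  rw [eq_inv_iff_mul_eq_one, ← h, neg_add_cancel, h.zero]

theorem IsAdd.comm (h : IsAdd X) (a b : F) : Commute (X a) (X b) := by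
  rw [Commute, SemiconjBy, ← h, ← h, add_comm]

theorem IsAdd.nsmul (h : IsAdd X) (n : ℕ) (a : F) : X (n • a) = X a ^ n := by
  induction n with
  | zero => simp [h.zero]
  | succ n ih => rw [succ_nsmul, h, ih, pow_succ]

theorem IsAdd.conj (h : IsAdd X) (g : J) : IsAdd (fun a => g * X a * g⁻¹) := fun a b => by
  simp only [h a b]; group

theorem IsAdd.map (h : IsAdd X) {J' : Type*} [Group J'] (φ : J →* J') :
    IsAdd (fun a => φ (X a)) := fun a b => by simp only [h a b, map_mul]

/-- Induction over an additively spanning set. -/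
theorem IsAdd.ind (h : IsAdd X) {S : Set F} (hS : AddSubgroup.closure S = ⊤) (H : Subgroup J)
    (hH : ∀ s ∈ S, X s ∈ H) (a : F) : X a ∈ H := by
  have ha : a ∈ AddSubgroup.closure S := hS ▸ AddSubgroup.mem_top a
  induction ha using AddSubgroup.closure_induction with
  | mem s hs => exact hH s hs
  | zero => rw [h.zero]; exact H.one_mem
  | add a b _ _ ha hb => rw [h]; exact H.mul_mem ha hb
  | neg a _ ha => rw [h.neg]; exact H.inv_mem ha

theorem IsAdd.commute (h : IsAdd X) {S : Set F} (hS : AddSubgroup.closure S = ⊤) {g : J}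
    (hH : ∀ s ∈ S, Commute g (X s)) (a : F) : Commute g (X a) := by
  have := h.ind hS (Subgroup.centralizer {g})
    (fun s hs => Subgroup.mem_centralizer_singleton_iff.2 (hH s hs).symm) a
  exact (Subgroup.mem_centralizer_singleton_iff.1 this).symm

theorem IsAdd.ext (h : IsAdd X) {Y : F → J} (hY : IsAdd Y) {S : Set F}
    (hS : AddSubgroup.closure S = ⊤) (hH : ∀ s ∈ S, X s = Y s) (a : F) : X a = Y a := by
  have ha : a ∈ AddSubgroup.closure S := hS ▸ AddSubgroup.mem_top a
  induction ha using AddSubgroup.closure_induction with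
  | mem s hs => exact hH s hs
  | zero => rw [h.zero, hY.zero]
  | add a b _ _ ha hb => rw [h, hY, ha, hb]
  | neg a _ ha => rw [h.neg, hY.neg, ha]

end IsAdd

theorem IsAdd.comp_mul {F J : Type*} [Ring F] [Group J] {X : F → J} (h : IsAdd X) (c : F) :
    IsAdd (fun a => X (c * a)) := fun a b => by simp only [mul_add, h _ _]

/-- Coordinates in the power basis of `ζ` over the prime field. -/
structure LD (p : ℕ) {F : Type*} [Field F] (ζ : F) where
  /-- the degree -/
  d : ℕ
  /-- the coordinates -/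
  c : F → ℕ → ZMod p
  c_add : ∀ a b m, c (a + b) m = c a m + c b m
  c_pow : ∀ m < d, ∀ k < d, c (ζ ^ m) k = if k = m then 1 else 0
  sum : ∀ a, ∑ m ∈ Finset.range d, ((c a m).val : F) * ζ ^ m = a
  card : Nat.card F = p ^ d

theorem exists_LD (p : ℕ) [Fact p.Prime] {F : Type*} [Field F] [Finite F] [CharP F p] (ζ : F)
    (hζ : ∀ K : Subring F, ζ ∈ K → K = ⊤) : Nonempty (LD p ζ) := by
  let : Algebra (ZMod p) F := ZMod.algebra F p
  have hint : IsIntegral (ZMod p) ζ := IsIntegral.of_finite _ _
  have hadj : Algebra.adjoin (ZMod p) {ζ} = ⊤ := by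
    have := hζ (Algebra.adjoin (ZMod p) {ζ}).toSubring (Algebra.self_mem_adjoin_singleton _ _)
    rw [eq_top_iff]; intro x _
    have hx : x ∈ (Algebra.adjoin (ZMod p) {ζ}).toSubring := this ▸ Subring.mem_top x
    exact hx
  let pb := PowerBasis.ofAdjoinEqTop hint hadj
  have hgen : pb.gen = ζ := PowerBasis.ofAdjoinEqTop_gen hint hadj
  refine ⟨⟨pb.dim, fun a m => if h : m < pb.dim then pb.basis.repr a ⟨m, h⟩ else 0,
    fun a b m => ?_, fun m hm k hk => ?_, fun a => ?_, ?_⟩⟩
  · split_ifs <;> simp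
  · rw [dif_pos hk, ← hgen]
    have := pb.basis_eq_pow ⟨m, hm⟩
    simp only at this
    rw [← this, pb.basis.repr_self, Finsupp.single_apply]
    simp [eq_comm]
  · rw [Finset.sum_range (fun m => (((if h : m < pb.dim then pb.basis.repr a ⟨m, h⟩ else 0).val
      : ℕ) : F) * ζ ^ m)]
    conv_rhs => rw [← pb.basis.sum_repr a]
    refine Finset.sum_congr rfl (fun i _ => ?_)
    rw [dif_pos i.2, pb.basis_eq_pow, hgen, Algebra.smul_def]
    congr 1
    conv_rhs => rw [← ZMod.natCast_zmod_val (pb.basis.repr a i), map_natCast]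
  · rw [Module.natCard_eq_pow_finrank (K := ZMod p), pb.finrank, Nat.card_zmod]

namespace LD

variable {p : ℕ} {F : Type*} [Field F] {ζ : F} (D : LD p ζ) {J : Type*} [Group J]

/-- The word attached to `a`. -/
def wd (θ : ℕ → J) (a : F) : J := ((List.range D.d).map fun m => θ m ^ (D.c a m).val).prod

theorem map_wd {J' : Type*} [Group J'] (φ : J →* J') (θ : ℕ → J) (a : F) :
    φ (D.wd θ a) = D.wd (fun m => φ (θ m)) a := by
  simp [wd, map_list_prod, List.map_map, Function.comp_def]

theorem conj_wd (g : J) (θ : ℕ → J) (a : F) :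
    g * D.wd θ a * g⁻¹ = D.wd (fun m => g * θ m * g⁻¹) a :=
  D.map_wd (MulAut.conj g).toMonoidHom θ a

theorem wd_congr {θ θ' : ℕ → J} (h : ∀ m < D.d, θ m = θ' m) (a : F) : D.wd θ a = D.wd θ' a := by
  unfold wd
  congr 1
  exact List.map_congr_left (fun m hm => by rw [h m (List.mem_range.1 hm)])

theorem wd_mem {θ : ℕ → J} {H : Subgroup J} (h : ∀ m < D.d, θ m ∈ H) (a : F) : D.wd θ a ∈ H := by
  refine H.list_prod_mem (fun x hx => ?_)
  obtain ⟨m, hm, rfl⟩ := List.mem_map.1 hx
  exact H.pow_mem (h m (List.mem_range.1 hm)) _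

theorem span : AddSubgroup.closure {a | ∃ m < D.d, ζ ^ m = a} = ⊤ := by
  rw [eq_top_iff]; intro a _
  rw [← D.sum a]
  refine AddSubgroup.sum_mem _ (fun m hm => ?_)
  rw [← nsmul_eq_mul]
  refine AddSubgroup.nsmul_mem _ (AddSubgroup.subset_closure ?_) _
  exact ⟨m, Finset.mem_range.1 hm, rfl⟩

/-- In a model the word is what it should be. -/
theorem wd_model {x : F → J} (hx : IsAdd x) {θ : ℕ → J} (h : ∀ m < D.d, θ m = x (ζ ^ m)) (a : F) :
    D.wd θ a = x a := by
  rw [D.wd_congr h]
  conv_rhs => rw [← D.sum a]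
  unfold wd
  generalize D.d = n
  induction n with
  | zero => simp [hx.zero]
  | succ n ih =>
    rw [List.range_succ, List.map_append, List.prod_append, ih, Finset.sum_range_succ, hx,
      ← nsmul_eq_mul, hx.nsmul]
    simp

theorem prod_mul_aux (θ : ℕ → J) (f g : ℕ → ℕ) (n : ℕ)
    (hc : ∀ a < n, ∀ b < n, Commute (θ a) (θ b)) :
    ((List.range n).map fun m => θ m ^ (f m + g m)).prod =
      ((List.range n).map fun m => θ m ^ f m).prod *
        ((List.range n).map fun m => θ m ^ g m).prod := by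
  induction n with
  | zero => simp
  | succ n ih =>
    have h1 : Commute (θ n ^ f n) ((List.range n).map fun m => θ m ^ g m).prod := by
      refine Commute.list_prod_right _ _ (fun x hx => ?_)
      obtain ⟨m, hm, rfl⟩ := List.mem_map.1 hx
      exact (hc n (by omega) m (by have := List.mem_range.1 hm; omega)).pow_pow _ _
    simp only [List.range_succ, List.map_append, List.prod_append, List.map_cons, List.map_nil,
      List.prod_cons, List.prod_nil, mul_one]
    rw [ih (fun a ha b hb => hc a (by omega) b (by omega)), pow_add, mul_assoc, mul_assoc,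
      ← mul_assoc (θ n ^ f n), h1.eq]
    simp only [mul_assoc]

variable [NeZero p]

theorem wd_add {θ : ℕ → J} (hc : ∀ a < D.d, ∀ b < D.d, Commute (θ a) (θ b))
    (hp : ∀ m < D.d, θ m ^ p = 1) : IsAdd (D.wd θ) := fun a b => by
  unfold wd
  rw [← prod_mul_aux θ _ _ _ hc]
  congr 1
  refine List.map_congr_left (fun m hm => ?_)
  rw [D.c_add, ZMod.val_add, ← pow_eq_pow_mod _ (hp m (List.mem_range.1 hm))]

omit [NeZero p] in
theorem wd_pow_lt (θ : ℕ → J) (hp : ∀ m < D.d, θ m ^ p = 1) {m : ℕ} (hm : m < D.d) :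
    D.wd θ (ζ ^ m) = θ m := by
  unfold wd
  have : ∀ n ≤ D.d, ((List.range n).map fun k => θ k ^ (D.c (ζ ^ m) k).val).prod =
      if m < n then θ m else 1 := by
    intro n hn
    induction n with
    | zero => simp
    | succ n ih =>
      rw [List.range_succ, List.map_append, List.prod_append, ih (by omega)]
      simp only [List.map_cons, List.map_nil, List.prod_cons, List.prod_nil, mul_one]
      rw [D.c_pow m hm n (by omega)]
      by_cases h1 : n = m
      · subst h1
        rw [if_pos rfl, if_neg (lt_irrefl _), if_pos (Nat.lt_succ_self _), one_mul, ZMod.val_one_eq_one_mod,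
          ← pow_eq_pow_mod _ (hp n hm), pow_one]
      · rw [if_neg h1, ZMod.val_zero, pow_zero, mul_one]
        by_cases h2 : m < n
        · rw [if_pos h2, if_pos (by omega)]
        · rw [if_neg h2, if_neg (by omega)]
  rw [this _ le_rfl, if_pos hm]

/-- The module trick. -/
theorem main {θ : ℕ → J} {t : J} (hc : ∀ a < D.d, ∀ b < D.d, Commute (θ a) (θ b))
    (hp : θ 0 ^ p = 1) (ht : ∀ m, t * θ m * t⁻¹ = θ (m + 1)) (hrel : θ D.d = D.wd θ (ζ ^ D.d)) :
    IsAdd (D.wd θ) ∧ (∀ a, t * D.wd θ a * t⁻¹ = D.wd θ (ζ * a)) ∧ ∀ m, D.wd θ (ζ ^ m) = θ m := by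
  have hp' : ∀ m, θ m ^ p = 1 := fun m => by
    induction m with
    | zero => exact hp
    | succ m ih => rw [← ht, conj_pow, ih]; simp
  have h1 := D.wd_add hc (fun m _ => hp' m)
  have h2 : ∀ a, t * D.wd θ a * t⁻¹ = D.wd θ (ζ * a) := by
    refine (h1.conj t).ext (h1.comp_mul ζ) D.span ?_
    rintro _ ⟨m, hm, rfl⟩
    rw [D.wd_pow_lt θ (fun m _ => hp' m) hm, ht, ← pow_succ']
    rcases (Nat.succ_le_of_lt hm).lt_or_eq with h | h
    · rw [D.wd_pow_lt θ (fun m _ => hp' m) h]
    · rw [show m + 1 = D.d from h]; exact hrel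
  refine ⟨h1, h2, fun m => ?_⟩
  induction m with
  | zero =>
    rcases Nat.eq_zero_or_pos D.d with h | h
    · have := hrel; rw [h] at this; exact this.symm
    · exact D.wd_pow_lt θ (fun m _ => hp' m) h
  | succ m ih => rw [pow_succ', ← h2, ih, ht]

end LD

/-- Conjugates `t ^ m u t ^ (-m)`. -/
def cj {J : Type*} [Group J] (t u : J) (m : ℕ) : J := t ^ m * u * (t ^ m)⁻¹

section
variable {J : Type*} [Group J]

@[simp] theorem cj_zero (t u : J) : cj t u 0 = u := by simp [cj]

theorem cj_succ (t u : J) (m : ℕ) : t * cj t u m * t⁻¹ = cj t u (m + 1) := by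
  simp only [cj, pow_succ']; group

theorem map_cj {J' : Type*} [Group J'] (φ : J →* J') (t u : J) (m : ℕ) :
    φ (cj t u m) = cj (φ t) (φ u) m := by simp [cj]

theorem conj_cj (g t u : J) (m : ℕ) :
    g * cj t u m * g⁻¹ = cj (g * t * g⁻¹) (g * u * g⁻¹) m :=
  map_cj (MulAut.conj g).toMonoidHom t u m

theorem cj_model {F : Type*} [Monoid F] {x : F → J} {t : J} {ζ : F}
    (ht : ∀ a, t * x a * t⁻¹ = x (ζ * a)) (b : F) (m : ℕ) : cj t (x b) m = x (ζ ^ m * b) := by
  induction m with
  | zero => simp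
  | succ m ih => rw [← cj_succ, ih, ht, pow_succ', mul_assoc]

/-- Baumslag's trick: `[u, u ^ t] = 1`, `u ^ s = u u ^ t` and `[s, t] = 1` make all the
conjugates of `u` under `t` commute. -/
theorem baumslag {s t u : J} (hst : Commute s t) (h1 : Commute u (cj t u 1))
    (h2 : s * u * s⁻¹ = u * cj t u 1) (a b : ℕ) : Commute (cj t u a) (cj t u b) := by
  have hs : ∀ m, s * cj t u m * s⁻¹ = cj t u m * cj t u (m + 1) := fun m => by
    rw [conj_cj, h2, hst.eq, mul_inv_cancel_right]
    simp only [cj, pow_succ, pow_zero, one_mul]; group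
  have sh : ∀ {a b : ℕ} (k : ℕ), Commute (cj t u a) (cj t u b) →
      Commute (cj t u (a + k)) (cj t u (b + k)) := fun {a b} k h => by
    induction k with
    | zero => exact h
    | succ k ih =>
      rw [← add_assoc, ← add_assoc, ← cj_succ, ← cj_succ]
      exact ih.map (MulAut.conj t)
  have key : ∀ n, ∀ m ≤ n + 1, Commute (cj t u 0) (cj t u m) := by
    intro n
    induction n with
    | zero =>
      intro m hm
      interval_cases m
      · exact Commute.refl _
      · simpa using h1
    | succ n ih =>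
      intro m hm
      rcases hm.lt_or_eq with h | rfl
      · exact ih m (by omega)
      · have e : Commute (cj t u 0 * cj t u 1) (cj t u (n + 1) * cj t u (n + 1 + 1)) := by
          have := (ih (n + 1) le_rfl).map (MulAut.conj s)
          simpa only [MulAut.conj_apply, hs] using this
        have e1 : Commute (cj t u 1) (cj t u (n + 1) * cj t u (n + 1 + 1)) := by
          have a1 := sh 1 (ih n (by omega))
          have a2 := sh 1 (ih (n + 1) le_rfl)
          exact a1.mul_right a2
        have e2 : Commute (cj t u 0) (cj t u (n + 1) * cj t u (n + 1 + 1)) := by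
          have := e.mul_left e1.inv_left
          simpa using this
        have := (ih (n + 1) le_rfl).inv_right.mul_right e2
        simpa using this
  have key' : ∀ a b, a ≤ b → Commute (cj t u a) (cj t u b) := fun a b h => by
    have := sh a (key (b - a) (b - a) (by omega))
    rwa [zero_add, Nat.sub_add_cancel h] at this
  rcases le_total a b with h | h
  · exact key' a b h
  · exact (key' b a h).symm

end

/-- The module trick for conjugates. -/
theorem LD.main_cj {p : ℕ} [NeZero p] {F : Type*} [Field F] {ζ : F} (D : LD p ζ) {J : Type*}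
    [Group J] {t u : J} (hc : ∀ a < D.d, ∀ b < D.d, Commute (cj t u a) (cj t u b))
    (hp : u ^ p = 1) (hrel : cj t u D.d = D.wd (cj t u) (ζ ^ D.d)) :
    IsAdd (D.wd (cj t u)) ∧ (∀ a, t * D.wd (cj t u) a * t⁻¹ = D.wd (cj t u) (ζ * a)) ∧
      ∀ m, D.wd (cj t u) (ζ ^ m) = cj t u m :=
  D.main hc (by simpa using hp) (cj_succ t u) hrel

/-- A primitive root: every nonzero element is a power. -/
theorem exists_prim (F : Type*) [Field F] [Finite F] :
    ∃ ζ : F, ζ ≠ 0 ∧ (∀ a : F, a ≠ 0 → ∃ m : ℕ, ζ ^ m = a) ∧ orderOf ζ = Nat.card F - 1 := by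
  obtain ⟨g, hg⟩ := IsCyclic.exists_generator (α := Fˣ)
  refine ⟨g, g.ne_zero, fun a ha => ?_, ?_⟩
  · have := mem_powers_iff_mem_zpowers.2 (hg (Units.mk0 a ha))
    obtain ⟨m, hm⟩ := this
    exact ⟨m, by simpa using congrArg Units.val hm⟩
  · rw [orderOf_units, orderOf_eq_card_of_forall_mem_zpowers hg, Nat.card_units]

theorem subring_top_of_prim {F : Type*} [Field F] {ζ : F}
    (h : ∀ a : F, a ≠ 0 → ∃ m : ℕ, ζ ^ m = a) (K : Subring F) (hK : ζ ∈ K) : K = ⊤ := by
  rw [eq_top_iff]; intro a _
  by_cases ha : a = 0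
  · rw [ha]; exact K.zero_mem
  · obtain ⟨m, rfl⟩ := h a ha; exact K.pow_mem hK m

end H77.Pres
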