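import Cfsg.Agent.Lib.Pres.SLn

/-!
# A short presentation of `SL_3(F)`: four generators, thirteen relations
-/

set_option autoImplicit false

open scoped commutatorElement

namespace H77.Pres

open H63.St H63.St.SL H40 Monoid Equiv

theorem card_le_of_pow_mem {F : Type*} [Field F] [Finite F] {ζ : F}
    (hζ : ∀ a : F, a ≠ 0 → ∃ m : ℕ, ζ ^ m = a) {n : ℕ} (hn : 0 < n) (K : Subring F)
    (hK : ζ ^ n ∈ K) : Nat.card F - 1 ≤ n * (Nat.card K - 1) := by
  classical
  have := Fintype.ofFinite F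
  let φ : Fin n × {x : K // x ≠ 0} → F := fun x => ζ ^ (x.1 : ℕ) * (x.2.1 : F)
  have h : (Finset.univ.erase (0 : F)) ⊆ Finset.univ.image φ := by
    intro a ha
    have ha0 := (Finset.mem_erase.1 ha).1
    obtain ⟨m, rfl⟩ := hζ a ha0
    have e : ζ ^ m = ζ ^ (m % n) * (ζ ^ n) ^ (m / n) := by
      rw [← pow_mul, ← pow_add, Nat.mod_add_div]
    refine Finset.mem_image.2 ⟨(⟨m % n, Nat.mod_lt _ hn⟩, ⟨⟨(ζ ^ n) ^ (m / n), K.pow_mem hK _⟩,
      fun e' => ha0 ?_⟩), Finset.mem_univ _, e.symm⟩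
    rw [e, show (ζ ^ n) ^ (m / n) = 0 from congrArg Subtype.val e', mul_zero]
  have h2 := (Finset.card_le_card h).trans Finset.card_image_le
  simpa [Nat.card_eq_fintype_card, Fintype.card_subtype_compl] using h2

theorem subring_top_of_card {F : Type*} [Field F] [Finite F] (h2 : Odd (Nat.card F))
    (K : Subring F) (hK : Nat.card F < 3 * Nat.card K) : K = ⊤ := by
  have h := K.toAddSubgroup.index_mul_card
  have hc : Nat.card K.toAddSubgroup = Nat.card K := rfl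
  rw [hc] at h
  have h3 : K.toAddSubgroup.index < 3 := by
    by_contra h3
    have := Nat.mul_le_mul_right (Nat.card K) (not_lt.1 h3)
    omega
  have h4 : Odd K.toAddSubgroup.index := Odd.of_dvd_nat h2 (Dvd.intro _ h)
  have h5 : K.toAddSubgroup.index = 1 := by obtain ⟨k, hk⟩ := h4; omega
  rw [AddSubgroup.index_eq_one] at h5
  rw [eq_top_iff]; intro x _
  have : x ∈ K.toAddSubgroup := h5 ▸ AddSubgroup.mem_top x
  exact this

theorem subring_top_of_pow {F : Type*} [Field F] [Finite F] (h2 : Odd (Nat.card F)) {ζ : F}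
    (hζ : ∀ a : F, a ≠ 0 → ∃ m : ℕ, ζ ^ m = a) {n : ℕ} (hn : 0 < n) (hn3 : n ≤ 3)
    (K : Subring F) (hK : ζ ^ n ∈ K) : K = ⊤ := by
  refine subring_top_of_card h2 K ?_
  have h := card_le_of_pow_mem hζ hn K hK
  have h1 : 0 < Nat.card K := Nat.card_pos
  have := Nat.mul_le_mul_right (Nat.card K - 1) hn3
  omega

theorem odd_card {F : Type*} [Field F] [Finite F] {p : ℕ} [Fact p.Prime] [CharP F p]
    (hp : p ≠ 2) : Odd (Nat.card F) := by
  have := Fintype.ofFinite F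
  obtain ⟨n, -, hn⟩ := FiniteField.card F p
  rw [Nat.card_eq_fintype_card, hn]
  exact ((Fact.out : p.Prime).odd_of_ne_two hp).pow

/-- An involution which is the commutator of two involutions commutes with them. -/
theorem d8 {J : Type*} [Group J] {a b c : J} (ha : a ^ 2 = 1) (hb : b ^ 2 = 1) (hc : c ^ 2 = 1)
    (h : ⁅a, b⁆ = c) : Commute a c ∧ Commute b c := by
  have ha' : a⁻¹ = a := by rw [inv_eq_iff_mul_eq_one, ← sq, ha]
  have hb' : b⁻¹ = b := by rw [inv_eq_iff_mul_eq_one, ← sq, hb]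
  have hc' : c⁻¹ = c := by rw [inv_eq_iff_mul_eq_one, ← sq, hc]
  have h1 : c = a * b * a * b := by rw [← h, commutatorElement_def, ha', hb']
  have h2 : c = b * a * b * a := by
    rw [← hc', ← h, commutatorElement_inv, commutatorElement_def, ha', hb']
  constructor
  · change a * c = c * a
    conv_lhs => rw [h2]
    conv_rhs => rw [h1]
    group
  · change b * c = c * b
    conv_lhs => rw [h1]
    conv_rhs => rw [h2]
    group

namespace TD

variable {Ω J : Type*} [Group J] (T : TD Ω J) [DecidableEq Ω]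

omit [DecidableEq Ω] in
theorem W_pow {i j : Ω} {p : ℕ} (h : T.U i j ^ p = 1) (a : ℤ) : T.W i j a ^ p = 1 := by
  rw [W, conj_pow, h]; simp

theorem row3 {i j k : Ω} (h1 : i ≠ j) (h2 : i ≠ k) (h3 : j ≠ k)
    (ra : Commute (T.U i j) (T.U i k)) (a b : ℤ) :
    Commute (T.W i j (-b + 3 * a)) (T.W i k b) := by
  have := ra.map (MulAut.conj (T.H i j ^ (2 * a - b) * T.H i k ^ (b - a)))
  rw [← T.W_zero, ← T.W_zero, T.shift2 h1, T.shift2 h2] at this
  simp only [ep, h1, h2, h3, h1.symm, h2.symm, h3.symm, if_true, if_false] at this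
  convert this using 2 <;> ring

theorem col3 {i j k : Ω} (h1 : i ≠ j) (h2 : k ≠ j) (h3 : i ≠ k)
    (rb : Commute (T.U i j) (T.U k j)) (a b : ℤ) :
    Commute (T.W i j (-b + 3 * a)) (T.W k j b) := by
  have := rb.map (MulAut.conj (T.H i j ^ (2 * a - b) * T.H k j ^ (b - a)))
  rw [← T.W_zero, ← T.W_zero, T.shift2 h1, T.shift2 h2] at this
  simp only [ep, h1, h2, h3, h1.symm, h2.symm, h3.symm, if_true, if_false] at this
  convert this using 2 <;> ring

theorem prod3 {i j k : Ω} (h1 : i ≠ j) (h2 : j ≠ k) (h3 : i ≠ k) {c : ℤ}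
    (rc : ⁅T.W i j c, T.U j k⁆ = T.W i k c) (a b : ℤ) :
    ⁅T.W i j (b + c + 3 * a), T.W j k b⁆ = T.W i k (b + c + 3 * a + b) := by
  have := congrArg (MulAut.conj (T.H i j ^ (2 * a + b) * T.H j k ^ (a + b))) rc
  rw [map_commutatorElement, ← T.W_zero, T.shift2 h1, T.shift2 h2, T.shift2 h3] at this
  simp only [ep, h1, h2, h3, h1.symm, h2.symm, h3.symm, if_true, if_false] at this
  refine Eq.trans ?_ (this.trans ?_)
  · congr 2 <;> ring
  · congr 1; ring

/-- Characteristic two. -/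
theorem pre_three_two {F : Type*} [Field F] [Finite F] {ζ : F} (hζ0 : ζ ≠ 0)
    (hζ : ∀ a : F, a ≠ 0 → ∃ m : ℕ, ζ ^ m = a) (D : LD 2 ζ)
    (three : ∀ i j k l : Ω, i ≠ j → k ≠ l → i ≠ k → i ≠ l → j ≠ k → j ≠ l → False)
    (hp : ∀ i j, i ≠ j → T.U i j ^ 2 = 1)
    (rc : ∀ i j k, i ≠ j → j ≠ k → i ≠ k → ∀ c : ℕ, c < 3 → ⁅T.W i j c, T.U j k⁆ = T.W i k c)
    (hrel : ∀ i j, i ≠ j → ∃ k, k ≠ i ∧ k ≠ j ∧
      cj (T.H i k) (T.U i j) D.d = D.wd (cj (T.H i k) (T.U i j)) (ζ ^ D.d)) :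
    ∃ S : PreStA Ω F J, ∀ i j, i ≠ j → ∀ m : ℤ, S.x i j (ζ ^ m) = T.W i j m := by
  have prod : ∀ {i j k : Ω}, i ≠ j → j ≠ k → i ≠ k → ∀ a b : ℤ,
      ⁅T.W i j a, T.W j k b⁆ = T.W i k (a + b) := fun {i j k} h1 h2 h3 a b => by
    have := T.prod3 h1 h2 h3 (rc i j k h1 h2 h3 ((a - b) % 3).toNat (by omega)) ((a - b) / 3) b
    have e : b + (((a - b) % 3).toNat : ℤ) + 3 * ((a - b) / 3) = a := by omega
    rwa [e] at this
  have row : ∀ {i j k : Ω}, i ≠ j → i ≠ k → j ≠ k → ∀ a b : ℤ,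
      Commute (T.W i j a) (T.W i k b) := fun {i j k} h1 h2 h3 a b => by
    have := (d8 (T.W_pow (hp _ _ h1) _) (T.W_pow (hp _ _ h3) _) (T.W_pow (hp _ _ h2) _)
      (prod h1 h3 h2 a (b - a))).1
    rwa [add_sub_cancel] at this
  have col : ∀ {i j k : Ω}, i ≠ j → k ≠ j → i ≠ k → ∀ a b : ℤ,
      Commute (T.W i j a) (T.W k j b) := fun {i j k} h1 h2 h3 a b => by
    have := (d8 (T.W_pow (hp _ _ h3) _) (T.W_pow (hp _ _ h2) _) (T.W_pow (hp _ _ h1) _)
      (prod h3 h2 h1 (a - b) b)).2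
    rw [sub_add_cancel] at this
    exact this.symm
  refine exists_pre hζ0 hζ T.W (fun i j e => ?_) row col prod
    (fun a b c d e f => (three _ _ _ _ a b c d e f).elim)
  obtain ⟨k, k1, k2, hk⟩ := hrel i j e
  exact T.exists_X hζ0 D e k1 k2 (T.same_comm row col prod e) (hp i j e) hk

/-- Odd characteristic (or any field generated by its cubes). -/
theorem pre_three {p : ℕ} [NeZero p] {F : Type*} [Field F] [Finite F] {ζ : F} (hζ0 : ζ ≠ 0)
    (hζ : ∀ a : F, a ≠ 0 → ∃ m : ℕ, ζ ^ m = a) (D : LD p (ζ ^ 3))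
    (three : ∀ i j k l : Ω, i ≠ j → k ≠ l → i ≠ k → i ≠ l → j ≠ k → j ≠ l → False)
    (hp : ∀ i j, i ≠ j → T.U i j ^ p = 1)
    (ra : ∀ i j k, i ≠ j → i ≠ k → j ≠ k → Commute (T.U i j) (T.U i k))
    (rb : ∀ i j k, i ≠ j → k ≠ j → i ≠ k → Commute (T.U i j) (T.U k j))
    (rc : ∀ i j k, i ≠ j → j ≠ k → i ≠ k → ⁅T.U i j, T.U j k⁆ = T.U i k)
    (hrel : ∀ i j, i ≠ j → ∃ k, k ≠ i ∧ k ≠ j ∧
      cj (T.H i k ^ 3) (T.U i j) D.d = D.wd (cj (T.H i k ^ 3) (T.U i j)) ((ζ ^ 3) ^ D.d) ∧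
      cj (T.H i k) (T.U i j) 1 = D.wd (cj (T.H i k ^ 3) (T.U i j)) ζ) :
    ∃ S : PreStA Ω F J, ∀ i j, i ≠ j → ∀ m : ℤ, S.x i j (ζ ^ m) = T.W i j m := by
  have prod0 : ∀ {i j k : Ω}, i ≠ j → j ≠ k → i ≠ k → ∀ a b : ℤ,
      ⁅T.W i j (b + 3 * a), T.W j k b⁆ = T.W i k (b + 3 * a + b) := fun {i j k} h1 h2 h3 a b => by
    simpa using T.prod3 h1 h2 h3 (c := 0) (by simpa using rc i j k h1 h2 h3) a b
  have hX : ∀ i j, i ≠ j → ∃ X : F → J, IsAdd X ∧ ∀ m : ℤ, X (ζ ^ m) = T.W i j m := by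
    intro i j e
    obtain ⟨k, k1, k2, r1, r2⟩ := hrel i j e
    have hcj : ∀ m : ℕ, cj (T.H i k ^ 3) (T.U i j) m = T.W i j (3 * m) := fun m => by
      rw [← T.W_eq e k1 k2, cj, ← pow_mul, ← zpow_natCast]; simp
    obtain ⟨a1, a2, a3⟩ := D.main_cj (t := T.H i k ^ 3) (u := T.U i j) (fun a _ b _ => by
      rw [hcj, hcj]
      have e0 := prod0 k1.symm k2 e b 0
      rw [zero_add, add_zero] at e0
      rw [← e0, commutatorElement_def]
      have e1 := T.row3 e k1.symm k2.symm (ra _ _ _ e k1.symm k2.symm) (a + b) (3 * b)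
      have e2 := T.col3 e k2 k1.symm (rb _ _ _ e k2 k1.symm) a 0
      rw [show -(3 * (b : ℤ)) + 3 * (a + b) = 3 * a by ring] at e1
      rw [neg_zero, zero_add] at e2
      exact ((e1.mul_right e2).mul_right e1.inv_right).mul_right e2.inv_right) (hp i j e) r1
    generalize D.wd (cj (T.H i k ^ 3) (T.U i j)) = X at *
    have sh : ∀ m, T.H i k * T.W i j m * (T.H i k)⁻¹ = T.W i j (m + 1) := fun m => by
      rw [T.shift e]; simp [ep, e, k1, k2]
    have a4 : ∀ m : ℕ, X ((ζ ^ 3) ^ m * ζ) = T.W i j (3 * m + 1) := fun m => by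
      induction m with
      | zero => rw [pow_zero, one_mul, ← r2, T.cj_eq e k1 k2]; simp
      | succ m ih =>
        rw [pow_succ', mul_assoc, ← a2, ih]
        have := T.shift_zpow e i k 3 (3 * m + 1)
        rw [zpow_ofNat] at this
        rw [this]; simp only [ep, e, k1, k2, if_true, if_false]; congr 1
    have a5 : ∀ a, T.H i k * X a * (T.H i k)⁻¹ = X (ζ * a) := by
      refine (a1.conj _).ext (a1.comp_mul ζ) D.span ?_
      rintro _ ⟨m, -, rfl⟩
      rw [a3, hcj, sh, mul_comm ζ, a4]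
    refine ⟨X, a1, fun m => ?_⟩
    induction m using Int.induction_on with
    | zero => simpa using a3 0
    | succ m ih => rw [zpow_add_one₀ hζ0, mul_comm, ← a5, ih, sh]
    | pred m ih =>
      have e1 := a5 (ζ ^ (-(m : ℤ) - 1))
      rw [mul_comm ζ, ← zpow_add_one₀ hζ0, sub_add_cancel, ih] at e1
      have e2 := sh (-(m : ℤ) - 1)
      rw [sub_add_cancel] at e2
      rw [← e2] at e1
      simpa using e1
  have span : ∀ c : ℤ, AddSubgroup.closure {x : F | ∃ a : ℤ, ζ ^ (c + 3 * a) = x} = ⊤ := by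
    intro c
    rw [eq_top_iff]; intro x _
    obtain ⟨y, rfl⟩ : ∃ y, x = ζ ^ c * y :=
      ⟨(ζ ^ c)⁻¹ * x, by rw [mul_inv_cancel_left₀ (zpow_ne_zero _ hζ0)]⟩
    have hy : y ∈ AddSubgroup.closure {a | ∃ m < D.d, (ζ ^ 3) ^ m = a} :=
      D.span ▸ AddSubgroup.mem_top y
    induction hy using AddSubgroup.closure_induction with
    | mem y hy =>
      obtain ⟨m, -, rfl⟩ := hy
      refine AddSubgroup.subset_closure ⟨m, ?_⟩
      rw [zpow_add₀ hζ0, zpow_mul, zpow_natCast, zpow_ofNat]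
    | zero => simp
    | add a b _ _ ha hb => rw [mul_add]; exact AddSubgroup.add_mem _ (ha trivial) (hb trivial)
    | neg a _ ha => rw [mul_neg]; exact AddSubgroup.neg_mem _ (ha trivial)
  have hX' := hX
  choose! X hX1 hX2 using hX'
  have row : ∀ {i j k : Ω}, i ≠ j → i ≠ k → j ≠ k → ∀ (s : F) (b : ℤ),
      Commute (T.W i k b) (X i j s) := fun {i j k} h1 h2 h3 s b => by
    refine (hX1 _ _ h1).commute (span (-b)) ?_ s
    rintro _ ⟨a, rfl⟩
    rw [hX2 _ _ h1]; exact (T.row3 h1 h2 h3 (ra _ _ _ h1 h2 h3) a b).symm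
  have col : ∀ {i j k : Ω}, i ≠ j → k ≠ j → i ≠ k → ∀ (s : F) (b : ℤ),
      Commute (T.W k j b) (X i j s) := fun {i j k} h1 h2 h3 s b => by
    refine (hX1 _ _ h1).commute (span (-b)) ?_ s
    rintro _ ⟨a, rfl⟩
    rw [hX2 _ _ h1]; exact (T.col3 h1 h2 h3 (rb _ _ _ h1 h2 h3) a b).symm
  refine exists_pre hζ0 hζ T.W hX (fun h1 h2 h3 a b => ?_) (fun h1 h2 h3 a b => ?_)
    (fun {i j k} h1 h2 h3 a b => ?_) (fun a b c d e f => (three _ _ _ _ a b c d e f).elim)
  · rw [← hX2 _ _ h1]; exact (row h1 h2 h3 _ b).symm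
  · rw [← hX2 _ _ h1]; exact (col h1 h2 h3 _ b).symm
  · have row' : ∀ s t, Commute (X i j s) (X i k t) := fun s t => by
      refine (hX1 _ _ h3).commute (span 0) ?_ t
      rintro _ ⟨a, rfl⟩
      rw [hX2 _ _ h3]; exact (row h1 h3 h2 s _).symm
    have key : ∀ s, ⁅X i j s, T.W j k b⁆ = X i k (s * ζ ^ b) := fun s => by
      have hs : s ∈ AddSubgroup.closure {x : F | ∃ a : ℤ, ζ ^ (b + 3 * a) = x} :=
        span b ▸ AddSubgroup.mem_top s
      induction hs using AddSubgroup.closure_induction with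
      | mem y hy =>
        obtain ⟨m, rfl⟩ := hy
        rw [hX2 _ _ h1, ← zpow_add₀ hζ0, hX2 _ _ h3, prod0 h1 h2 h3]
      | zero => rw [(hX1 _ _ h1).zero, zero_mul, (hX1 _ _ h3).zero]; simp
      | add s t _ _ hs ht =>
        have e : ⁅X i j (s + t), T.W j k b⁆ =
            X i j s * ⁅X i j t, T.W j k b⁆ * (X i j s)⁻¹ * ⁅X i j s, T.W j k b⁆ := by
          rw [hX1 _ _ h1]; simp only [commutatorElement_def]; group
        rw [e, hs, ht, (row' _ _).eq, mul_inv_cancel_right, ← hX1 _ _ h3]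
        congr 1; ring
      | neg s _ hs =>
        have e : ⁅X i j (-s), T.W j k b⁆ = (X i j s)⁻¹ * ⁅X i j s, T.W j k b⁆⁻¹ * X i j s := by
          rw [(hX1 _ _ h1).neg]; simp only [commutatorElement_def]; group
        rw [e, hs, mul_assoc, ← (row' _ _).inv_right.eq, inv_mul_cancel_left, neg_mul,
          (hX1 _ _ h3).neg]
    rw [← hX2 _ _ h1, key, ← zpow_add₀ hζ0, hX2 _ _ h3]

end TD

/-- Signed permutation matrices. -/
def signSL (F : Type*) [Field F] : Perm (Fin 3) →* Matrix.SpecialLinearGroup (Fin 3) F where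
  toFun g := ⟨((Perm.sign g : ℤ) : F) • Matrix.permMatrixHom g, by
    rw [Matrix.det_smul]
    rcases Int.units_eq_one_or (Perm.sign g) with h | h <;> simp [h] <;> norm_num⟩
  map_one' := Subtype.ext (by simp)
  map_mul' g g' := Subtype.ext (by
    change (_ • _) = (_ • _) * (_ • _)
    rw [map_mul (Matrix.permMatrixHom (n := Fin 3) (R := F))]
    simp [smul_smul, mul_comm])

theorem mono_signSL {F : Type*} [Field F] (g : Perm (Fin 3)) : Mono (signSL F g) g :=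
  ⟨((Perm.sign g : ℤ) : F), fun a b => by
    change (((Perm.sign g : ℤ) : F) • Perm.permMatrix F g⁻¹) a b = _
    simp [Perm.permMatrix, PEquiv.toMatrix_apply, Equiv.symm_apply_eq]⟩

theorem exists_perm3 : ∀ i j k : Fin 3, i ≠ j → j ≠ k → i ≠ k →
    ∃ g : Perm (Fin 3), g 0 = i ∧ g 1 = j ∧ g 2 = k := by decide

/-- The frame of `S₃`. -/
noncomputable def fr3 : Fr (Perm (Fin 3)) (Fin 3) where
  ρ := MonoidHom.id _
  o1 := 0
  o2 := 1
  ne := by decide
  sel i j := if h : ∃ g : Perm (Fin 3), g 0 = i ∧ g 1 = j then h.choose else 1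
  sel1 i j e := by
    have h : ∃ g : Perm (Fin 3), g 0 = i ∧ g 1 = j := by revert i j; decide
    rw [dif_pos h]; exact h.choose_spec.1
  sel2 i j e := by
    have h : ∃ g : Perm (Fin 3), g 0 = i ∧ g 1 = j := by revert i j; decide
    rw [dif_pos h]; exact h.choose_spec.2
  K := []
  stab g h1 h2 := by
    have : g = 1 := by revert g; decide
    rw [this]; exact one_mem _
  fix := by simp
  th i j := if i = j then i + 1 else -(i + j)
  th1 := by decide
  th2 := by decide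

section Rel

variable {p : ℕ} {F : Type*} [Field F] {ζ : F}

/-- The common relators. -/
noncomputable def rel0 (p : ℕ) {J : Type*} [Group J] (f : Perm (Fin 3) →* J) (u h : J) : List J :=
  [fr3.cw f u 0 1 ^ p, fr3.hw f h 0 1 * fr3.hw f h 1 2 * (fr3.hw f h 0 2)⁻¹,
    ⁅fr3.hw f h 0 1, fr3.hw f h 0 2⁆, ⁅fr3.hw f h 0 2 * fr3.hw f h 1 2, fr3.cw f u 0 1⁆]

/-- The relators for odd characteristic. -/
noncomputable def relB (D : LD p (ζ ^ 3)) {J : Type*} [Group J] (f : Perm (Fin 3) →* J)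
    (u h : J) : List J :=
  rel0 p f u h ++
  [⁅fr3.cw f u 0 1, fr3.cw f u 0 2⁆, ⁅fr3.cw f u 0 1, fr3.cw f u 2 1⁆,
    ⁅fr3.cw f u 0 1, fr3.cw f u 1 2⁆ * (fr3.cw f u 0 2)⁻¹,
    cj (fr3.hw f h 0 2 ^ 3) (fr3.cw f u 0 1) D.d *
      (D.wd (cj (fr3.hw f h 0 2 ^ 3) (fr3.cw f u 0 1)) ((ζ ^ 3) ^ D.d))⁻¹,
    cj (fr3.hw f h 0 2) (fr3.cw f u 0 1) 1 *
      (D.wd (cj (fr3.hw f h 0 2 ^ 3) (fr3.cw f u 0 1)) ζ)⁻¹]

/-- The relators for characteristic two. -/
noncomputable def relC (D : LD 2 ζ) {J : Type*} [Group J] (f : Perm (Fin 3) →* J)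
    (u h : J) : List J :=
  rel0 2 f u h ++ (List.range 3).map (fun c =>
    ⁅cj (fr3.hw f h 0 2) (fr3.cw f u 0 1) c, fr3.cw f u 1 2⁆ *
      (cj (fr3.hw f h 0 1) (fr3.cw f u 0 2) c)⁻¹) ++
    [cj (fr3.hw f h 0 2) (fr3.cw f u 0 1) D.d *
      (D.wd (cj (fr3.hw f h 0 2) (fr3.cw f u 0 1)) (ζ ^ D.d))⁻¹]

theorem ev_relB (D : LD p (ζ ^ 3)) {J : Type*} [Group J] (f : Perm (Fin 3) →* J) (u h : J) :
    (∀ w ∈ relB D gp gu gh, ev f u h w = 1) ↔ ∀ w ∈ relB D f u h, w = 1 := by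
  have : (relB D gp gu gh).map (ev f u h) = relB D f u h := by
    simp [relB, rel0, Fr.map_cw, Fr.map_hw, map_cj, map_wd_cj]
  rw [← this, List.forall_mem_map]

theorem ev_relC (D : LD 2 ζ) {J : Type*} [Group J] (f : Perm (Fin 3) →* J) (u h : J) :
    (∀ w ∈ relC D gp gu gh, ev f u h w = 1) ↔ ∀ w ∈ relC D f u h, w = 1 := by
  have : (relC D gp gu gh).map (ev f u h) = relC D f u h := by
    simp [relC, rel0, Fr.map_cw, Fr.map_hw, map_cj, map_wd_cj, Function.comp_def]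
  rw [← this, List.forall_mem_map]

theorem cw3 {i j : Fin 3} (h : i ≠ j) : fr3.cw (signSL F) (tv 0 1 1) i j = tv i j 1 :=
  cw_tv fr3 mono_signSL h 1

theorem hw3 (hζ : ζ ≠ 0) (i j : Fin 3) : fr3.hw (signSL F) (hd hζ 0 1) i j = hd hζ i j :=
  hw_hd fr3 mono_signSL hζ i j

theorem rel0_model [CharP F p] (hζ : ζ ≠ 0) :
    ∀ w ∈ rel0 p (signSL F) (tv 0 1 1) (hd hζ 0 1), w = 1 := by
  have o12 : (0 : Fin 3) ≠ 1 := by decide
  simp only [rel0, List.forall_mem_cons, hw3, cw3 o12, List.not_mem_nil, IsEmpty.forall_iff,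
    implies_true, and_true]
  refine ⟨?_, ?_, ?_, ?_⟩
  · rw [← (tv_isAdd o12).nsmul]; simpa using (tv_isAdd (F := F) o12).zero
  · rw [hd_mul, mul_inv_cancel]
  · exact (hd_comm _ _ _ _ _).commutator_eq
  · rw [commutatorElement_def, mul_inv_eq_one, mul_inv_rev, mul_assoc (hd hζ 0 2),
      mul_assoc (hd hζ 0 2), ← mul_assoc (hd hζ 1 2 * _), hd_conj hζ _ _ o12,
      ← mul_assoc, hd_conj hζ _ _ o12, ← mul_assoc, ← zpow_add₀ hζ]
    simp [ep]

theorem cU3 {J : Type*} [Group J] (f : Perm (Fin 3) →* J) (u : J) (g : Perm (Fin 3))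
    {i j : Fin 3} (e : i ≠ j) : MulAut.conj (f g) (fr3.cw f u i j) = fr3.cw f u (g i) (g j) :=
  fr3.cw_conj (by simp [fr3]) g e

theorem cH3 {J : Type*} [Group J] (f : Perm (Fin 3) →* J) (h : J) (g : Perm (Fin 3))
    (i j : Fin 3) : MulAut.conj (f g) (fr3.hw f h i j) = fr3.hw f h (g i) (g j) :=
  fr3.hw_conj (by simp [fr3]) g i j

theorem rel0_td {J : Type*} [Group J] (f : Perm (Fin 3) →* J) (u h : J)
    (hr : ∀ w ∈ rel0 p f u h, w = 1) :
    ∃ T : TD (Fin 3) J, T.U = fr3.cw f u ∧ T.H = fr3.hw f h ∧ T.th = fr3.th ∧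
      ∀ i j, i ≠ j → T.U i j ^ p = 1 := by
  simp only [rel0, List.forall_mem_cons, List.not_mem_nil, IsEmpty.forall_iff,
    implies_true, and_true, commutatorElement_eq_one_iff_commute, mul_inv_eq_one] at hr
  obtain ⟨r1, r2, r3, r4⟩ := hr
  have o12 : (0 : Fin 3) ≠ 1 := by decide
  have mul : ∀ i j k, i ≠ j → j ≠ k → i ≠ k →
      fr3.hw f h i j * fr3.hw f h j k = fr3.hw f h i k := fun i j k a1 a2 a3 => by
    obtain ⟨g, rfl, rfl, rfl⟩ := exists_perm3 i j k a1 a2 a3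
    have := congrArg (MulAut.conj (f g)) r2
    rwa [map_mul, cH3, cH3, cH3] at this
  refine ⟨fr3.td f u h (fun i j e => ?_) mul (fun i j k a1 a2 a3 => ?_)
    (fun i j k l a1 a2 a3 a4 a5 a6 => ?_) (fun i j k a1 a2 a3 => ?_), rfl, rfl, rfl,
    fun i j e => ?_⟩
  · have e1 := mul (fr3.th i j) j i (fr3.th2 i j) e.symm (fr3.th1 i j)
    have e2 := mul (fr3.th i j) i j (fr3.th1 i j) e (fr3.th2 i j)
    rw [← e1, mul_assoc] at e2
    exact mul_eq_left.1 e2
  · obtain ⟨g, rfl, rfl, rfl⟩ := exists_perm3 i j k a1 a2 a3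
    have := r3.map (MulAut.conj (f g))
    rwa [cH3, cH3] at this
  · exfalso; omega
  · obtain ⟨g, rfl, rfl, rfl⟩ := exists_perm3 i j k a1 a3.symm a2.symm
    have := r4.map (MulAut.conj (f g))
    rwa [map_mul, cH3, cH3, cU3 _ _ _ o12] at this
  · obtain ⟨g, rfl, rfl, -⟩ := exists_perm3 i j _ e (fr3.th2 i j).symm (fr3.th1 i j).symm
    have := congrArg (MulAut.conj (f g)) r1
    rwa [map_pow, map_one, cU3 _ _ _ o12] at this

end Rel

/-- `SL_3(F)`: four generators, thirteen relations. -/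
theorem hasPr_SL_three (F : Type*) [Field F] [Finite F] :
    HasPr (Matrix.SpecialLinearGroup (Fin 3) F) 4 13 := by
  have hP := (H40.Alt.pr_perm_of_alt (H40.Alt.pr_carm (ι := Fin 1))).congr
    (Fintype.equivOfCardEq (by simp) : Fin 1 ⊕ Bool ≃ Fin 3).permCongrHom
  have hc : (Finset.univ.filter (fun p : Fin 1 × Fin 1 => p.1 < p.2)).card = 0 := by decide
  have hZ : Subgroup.normalClosure {z | z ∈ [swap (0 : Fin 3) 1]} = ⊤ := by
    rw [eq_top_iff, ← Perm.closure_isSwap, Subgroup.closure_le]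
    rintro _ ⟨i, j, e, rfl⟩
    obtain ⟨g, rfl, rfl, -⟩ := exists_perm3 i j _ e (fr3.th2 i j).symm (fr3.th1 i j).symm
    rw [swap_apply_apply]
    exact Subgroup.normalClosure_normal.conj_mem _ (Subgroup.subset_normalClosure (by simp)) g
  obtain ⟨p, hchar⟩ := CharP.exists F
  have hp : Fact p.Prime := ⟨CharP.char_is_prime F p⟩
  obtain ⟨ζ, hζ0, hζ, -⟩ := exists_prim F
  have o12 : (0 : Fin 3) ≠ 1 := by decide
  have o13 : (0 : Fin 3) ≠ 2 := by decide
  have o23 : (1 : Fin 3) ≠ 2 := by decide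
  have three : ∀ i j k l : Fin 3, i ≠ j → k ≠ l → i ≠ k → i ≠ l → j ≠ k → j ≠ l → False := by
    intro i j k l; omega
  have c1 : ∀ a b : F, ⁅tv (0 : Fin 3) 1 a, tv (1 : Fin 3) 2 b⁆ = tv 0 2 (a * b) :=
    (st (Fin 3) F).c1 o12 o23 o13
  by_cases h2 : p = 2
  · subst h2
    obtain ⟨D⟩ := exists_LD 2 ζ (subring_top_of_prim hζ)
    refine (pr_of_rel (m := 2) hP le_rfl fr3 hζ0 hζ (signSL F) mono_signSL _ hZ
      (relC D gp gu gh) ?_ ?_).elim fun g hg => hg.hasPr (by simp) (by simp [hc, relC, rel0, fr3])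
    · rw [ev_relC]
      change ∀ w ∈ relC D (signSL F) (tv 0 1 1) (hd hζ0 0 1), w = 1
      simp only [relC, List.forall_mem_append, List.forall_mem_cons, List.forall_mem_map,
        List.not_mem_nil, IsEmpty.forall_iff, implies_true, and_true, hw3, cw3 o12, cw3 o13,
        cw3 o23, mul_inv_eq_one]
      refine ⟨⟨rel0_model hζ0, fun c _ => ?_⟩, ?_⟩
      · rw [cj_hd hζ0 o12 o13.symm o23.symm, cj_hd hζ0 o13 o12.symm o23, c1, mul_one]
      · rw [D.wd_model (tv_isAdd o12) (fun a _ => cj_hd hζ0 o12 o13.symm o23.symm a),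
          cj_hd hζ0 o12 o13.symm o23.symm]
    · intro J _ f u h _ _ hr
      rw [ev_relC] at hr
      simp only [relC, List.forall_mem_append, List.forall_mem_cons, List.forall_mem_map,
        List.not_mem_nil, IsEmpty.forall_iff, implies_true, and_true, mul_inv_eq_one,
        List.mem_range] at hr
      obtain ⟨⟨r0, r1⟩, r2⟩ := hr
      obtain ⟨T, hU, hH, hth, hTp⟩ := rel0_td f u h r0
      refine ⟨T, hU, hH, hth, T.pre_three_two hζ0 hζ D three hTp
        (fun i j k a1 a2 a3 c hc => ?_) (fun i j e => ?_)⟩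
      · obtain ⟨g, rfl, rfl, rfl⟩ := exists_perm3 i j k a1 a2 a3
        have := congrArg (MulAut.conj (f g)).toMonoidHom (r1 c hc)
        rw [map_commutatorElement, map_cj, map_cj] at this
        simp only [MulEquiv.toMonoidHom_eq_coe, MonoidHom.coe_coe] at this
        rw [cH3, cH3, cU3 _ _ _ o12, cU3 _ _ _ o13, cU3 _ _ _ o23, ← hU, ← hH,
          T.cj_eq a1 a3.symm a2.symm, T.cj_eq a3 a1.symm a2] at this
        exact this
      · obtain ⟨g, rfl, rfl, -⟩ := exists_perm3 i j _ e (fr3.th2 i j).symm (fr3.th1 i j).symm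
        refine ⟨g 2, g.injective.ne o13.symm, g.injective.ne o23.symm, ?_⟩
        have := congrArg (MulAut.conj (f g)).toMonoidHom r2
        rw [map_cj, map_wd_cj] at this
        simp only [MulEquiv.toMonoidHom_eq_coe, MonoidHom.coe_coe] at this
        rwa [cH3, cU3 _ _ _ o12, ← hU, ← hH] at this
  · obtain ⟨D⟩ := exists_LD p (ζ ^ 3) (subring_top_of_pow (odd_card h2) hζ (by norm_num) le_rfl)
    refine (pr_of_rel (m := 2) hP le_rfl fr3 hζ0 hζ (signSL F) mono_signSL _ hZ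
      (relB D gp gu gh) ?_ ?_).elim fun g hg => hg.hasPr (by simp) (by simp [hc, relB, rel0, fr3])
    · rw [ev_relB]
      change ∀ w ∈ relB D (signSL F) (tv 0 1 1) (hd hζ0 0 1), w = 1
      simp only [relB, List.forall_mem_append, List.forall_mem_cons,
        List.not_mem_nil, IsEmpty.forall_iff, implies_true, and_true, hw3, cw3 o12, cw3 o13,
        cw3 o23, cw3 o23.symm, mul_inv_eq_one, commutatorElement_eq_one_iff_commute]
      have hcj : ∀ a : ℕ, cj (hd hζ0 (0 : Fin 3) 2 ^ 3) (tv 0 1 1) a = tv 0 1 ((ζ ^ 3) ^ a) := by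
        intro a
        rw [← pow_mul, ← cj_hd hζ0 o12 o13.symm o23.symm, cj, cj, pow_mul]
      refine ⟨rel0_model hζ0, (st (Fin 3) F).c0 o12 o13 o13 o12.symm 1 1,
        (st (Fin 3) F).c0 o12 o23.symm o12 o23 1 1, by rw [c1, mul_one], ?_, ?_⟩
      · rw [D.wd_model (tv_isAdd o12) (fun a _ => hcj a), hcj]
      · rw [D.wd_model (tv_isAdd o12) (fun a _ => hcj a), cj_hd hζ0 o12 o13.symm o23.symm, pow_one]
    · intro J _ f u h _ _ hr
      rw [ev_relB] at hr
      simp only [relB, List.forall_mem_append, List.forall_mem_cons,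
        List.not_mem_nil, IsEmpty.forall_iff, implies_true, and_true, mul_inv_eq_one,
        commutatorElement_eq_one_iff_commute] at hr
      obtain ⟨r0, r1, r2, r3, r4, r5⟩ := hr
      obtain ⟨T, hU, hH, hth, hTp⟩ := rel0_td f u h r0
      refine ⟨T, hU, hH, hth, T.pre_three hζ0 hζ D three hTp (fun i j k a1 a2 a3 => ?_)
        (fun i j k a1 a2 a3 => ?_) (fun i j k a1 a2 a3 => ?_) (fun i j e => ?_)⟩
      · obtain ⟨g, rfl, rfl, rfl⟩ := exists_perm3 i j k a1 a3 a2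
        have := r1.map (MulAut.conj (f g))
        rwa [cU3 _ _ _ o12, cU3 _ _ _ o13, ← hU] at this
      · obtain ⟨g, rfl, rfl, rfl⟩ := exists_perm3 i j k a1 a2.symm a3
        have := r2.map (MulAut.conj (f g))
        rwa [cU3 _ _ _ o12, cU3 _ _ _ o23.symm, ← hU] at this
      · obtain ⟨g, rfl, rfl, rfl⟩ := exists_perm3 i j k a1 a2 a3
        have := congrArg (MulAut.conj (f g)) r3
        rwa [map_commutatorElement, cU3 _ _ _ o12, cU3 _ _ _ o13, cU3 _ _ _ o23, ← hU] at this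
      · obtain ⟨g, rfl, rfl, -⟩ := exists_perm3 i j _ e (fr3.th2 i j).symm (fr3.th1 i j).symm
        refine ⟨g 2, g.injective.ne o13.symm, g.injective.ne o23.symm, ?_, ?_⟩
        · have := congrArg (MulAut.conj (f g)).toMonoidHom r4
          rw [map_cj, map_wd_cj, map_pow] at this
          simp only [MulEquiv.toMonoidHom_eq_coe, MonoidHom.coe_coe] at this
          rwa [cH3, cU3 _ _ _ o12, ← hU, ← hH] at this
        · have := congrArg (MulAut.conj (f g)).toMonoidHom r5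
          rw [map_cj, map_wd_cj, map_pow] at this
          simp only [MulEquiv.toMonoidHom_eq_coe, MonoidHom.coe_coe] at this
          rwa [cH3, cU3 _ _ _ o12, ← hU, ← hH] at this

end H77.Pres
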