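import Cfsg.Agent.Lib.Pres.Frame
import Cfsg.Agent.Lib.Pres.Alt

/-!
# Short presentations of `SL_n(F)`, `n ≥ 4`
-/

set_option autoImplicit false

open scoped commutatorElement

namespace H77.Pres

open H63.St H63.St.SL H40 Monoid Equiv

section Perms

variable {Ω : Type*} [Fintype Ω] [DecidableEq Ω]

theorem exists_even (σ : Perm Ω) {a b : Ω} (hab : a ≠ b) :
    ∃ g : alternatingGroup Ω, g.1 = σ ∨ g.1 = σ * swap a b := by
  rcases Int.units_eq_one_or (Perm.sign σ) with h | h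
  · exact ⟨⟨σ, h⟩, Or.inl rfl⟩
  · exact ⟨⟨σ * swap a b, by simp [Perm.mem_alternatingGroup, h, hab]⟩, Or.inr rfl⟩

omit [Fintype Ω] [DecidableEq Ω] in
theorem exists_perm4 {a b c d i j k l : Ω} (h : [a, b, c, d].Nodup) (h' : [i, j, k, l].Nodup) :
    ∃ σ : Perm Ω, σ a = i ∧ σ b = j ∧ σ c = k ∧ σ d = l := by
  obtain ⟨σ, hσ⟩ := Perm.exists_extending_pair ![a, b, c, d] ![i, j, k, l]
    (List.nodup_ofFn.1 (by simpa using h)) (List.nodup_ofFn.1 (by simpa using h'))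
  exact ⟨σ, hσ 0, hσ 1, hσ 2, hσ 3⟩

/-- Permutation matrices of even permutations. -/
def permSL (Ω F : Type*) [Fintype Ω] [DecidableEq Ω] [Field F] :
    alternatingGroup Ω →* Matrix.SpecialLinearGroup Ω F where
  toFun g := ⟨Matrix.permMatrixHom g.1, by
    have : Perm.sign g.1 = 1 := g.2
    simp [this]⟩
  map_one' := Subtype.ext (map_one _)
  map_mul' g g' := Subtype.ext (map_mul (Matrix.permMatrixHom (n := Ω) (R := F)) g.1 g'.1)

theorem mono_permSL {F : Type*} [Field F] (g : alternatingGroup Ω) : Mono (permSL Ω F g) g.1 :=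
  ⟨1, fun a b => by
    change Perm.permMatrix F g.1⁻¹ a b = _
    simp [Perm.permMatrix, PEquiv.toMatrix_apply, Equiv.symm_apply_eq]⟩

theorem exists_stab_gens {a b : Ω} (hab : a ≠ b) {k : ℕ}
    (hk : ∀ s : Finset Ω, s.card + 2 = Fintype.card Ω →
      ∃ K : List (alternatingGroup s), K.length ≤ k ∧ Subgroup.closure {x | x ∈ K} = ⊤) :
    ∃ K : List (alternatingGroup Ω), K.length ≤ k ∧
      (∀ g : alternatingGroup Ω, g.1 a = a → g.1 b = b → g ∈ Subgroup.closure {x | x ∈ K}) ∧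
      ∀ g ∈ K, g.1 a = a ∧ g.1 b = b := by
  obtain ⟨K, h1, h2⟩ := hk ({a, b}ᶜ) (by
    rw [Finset.card_compl, Finset.card_pair hab]
    have := Finset.card_le_univ ({a, b} : Finset Ω)
    rw [Finset.card_pair hab] at this; omega)
  refine ⟨K.map (alternatingGroup.ofSubtype _), by simpa using h1, fun g g1 g2 => ?_, ?_⟩
  · have : g ∈ (alternatingGroup.ofSubtype ({a, b}ᶜ : Finset Ω)).range := by
      rw [alternatingGroup.mem_range_ofSubtype_iff]
      intro x hx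
      rw [Perm.mem_support] at hx
      simp only [Finset.mem_compl, Finset.mem_insert, Finset.mem_singleton, not_or]
      exact ⟨by rintro rfl; exact hx g1, by rintro rfl; exact hx g2⟩
    rw [MonoidHom.range_eq_map, ← h2, MonoidHom.map_closure] at this
    convert this using 2
    ext x; simp
  · intro g hg
    obtain ⟨x, -, rfl⟩ := List.mem_map.1 hg
    rw [alternatingGroup.coe_ofSubtype]
    exact ⟨Perm.ofSubtype_apply_of_not_mem _ (by simp), Perm.ofSubtype_apply_of_not_mem _ (by simp)⟩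

end Perms

section Rel

variable {P Ω : Type*} [Group P] [DecidableEq Ω] (Φ : Fr P Ω) (o3 o4 : Ω) {p : ℕ} {F : Type*}
  [Field F] {ζ : F} (D : LD p ζ) (L3 : List Ω) (L4 : List (Ω × Ω))

/-- The relators for `n ≥ 4`. -/
def relA {J : Type*} [Group J] (f : P →* J) (u h : J) : List J :=
  [Φ.cw f u Φ.o1 Φ.o2 ^ p, Φ.hw f h Φ.o2 Φ.o1 * Φ.hw f h Φ.o1 Φ.o2,
    ⁅Φ.hw f h Φ.o1 Φ.o2, Φ.hw f h Φ.o1 o3⁆,
    Φ.hw f h Φ.o1 Φ.o2 * Φ.hw f h Φ.o2 o3 * Φ.hw f h o3 Φ.o1,
    ⁅Φ.hw f h o3 o4, Φ.cw f u Φ.o1 Φ.o2⁆,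
    ⁅Φ.hw f h Φ.o1 o3 * Φ.hw f h Φ.o2 o3, Φ.cw f u Φ.o1 Φ.o2⁆,
    ⁅Φ.cw f u Φ.o1 Φ.o2, Φ.cw f u Φ.o1 o3⁆, ⁅Φ.cw f u Φ.o1 Φ.o2, Φ.cw f u o3 Φ.o2⁆,
    cj (Φ.hw f h Φ.o1 o3) (Φ.cw f u Φ.o1 Φ.o2) D.d *
      (D.wd (cj (Φ.hw f h Φ.o1 o3) (Φ.cw f u Φ.o1 Φ.o2)) (ζ ^ D.d))⁻¹] ++
  L3.map (fun c => ⁅Φ.cw f u Φ.o1 Φ.o2, Φ.cw f u Φ.o2 c⁆ * (Φ.cw f u Φ.o1 c)⁻¹) ++
  L4.map (fun c => ⁅Φ.cw f u Φ.o1 Φ.o2, Φ.cw f u c.1 c.2⁆)

theorem map_wd_cj {J J' : Type*} [Group J] [Group J'] (φ : J →* J') (t u : J) (a : F) :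
    φ (D.wd (cj t u) a) = D.wd (cj (φ t) (φ u)) a := by
  rw [D.map_wd]; congr 1; ext m; exact map_cj φ t u m

theorem map_relA {J J' : Type*} [Group J] [Group J'] (φ : J →* J') (f : P →* J) (u h : J) :
    (relA Φ o3 o4 D L3 L4 f u h).map φ = relA Φ o3 o4 D L3 L4 (φ.comp f) (φ u) (φ h) := by
  simp [relA, Fr.map_cw, Fr.map_hw, map_cj, map_wd_cj, Function.comp_def]

theorem ev_relA {J : Type*} [Group J] (f : P →* J) (u h : J) :
    (∀ w ∈ relA Φ o3 o4 D L3 L4 gp gu gh, ev f u h w = 1) ↔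
      ∀ w ∈ relA Φ o3 o4 D L3 L4 f u h, w = 1 := by
  have := map_relA Φ o3 o4 D L3 L4 (ev f u h) gp gu gh
  rw [ev_inl, ev_u, ev_h] at this
  rw [← this, List.forall_mem_map]

end Rel

theorem tv_isAdd {Ω F : Type*} [Fintype Ω] [DecidableEq Ω] [Field F] {i j : Ω} (h : i ≠ j) :
    IsAdd (tv i j : F → _) := fun a b => ((st Ω F).add h a b).symm

theorem cj_hd {Ω F : Type*} [Fintype Ω] [DecidableEq Ω] [Field F] {ζ : F} (hζ : ζ ≠ 0)
    {i j k : Ω} (h : i ≠ j) (h1 : k ≠ i) (h2 : k ≠ j) (m : ℕ) :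
    cj (hd hζ i k) (tv i j 1) m = tv i j (ζ ^ m) := by
  have := hd_zpow_conj hζ h h1 h2 m 1
  rwa [zpow_natCast, zpow_natCast, mul_one] at this

/-- The presentation over the alternating group. -/
theorem pr_An {m : ℕ} (hm : 3 ≤ m) (F : Type*) [Field F] [Finite F]
    {ι : Type} {gP : ι → alternatingGroup (Fin (m + 1))} {r : ℕ} (hP : Pr gP r)
    {o1 o2 o3 o4 : Fin (m + 1)} (ho : [o1, o2, o3, o4].Nodup) {k : ℕ}
    (hk : ∀ s : Finset (Fin (m + 1)), s.card + 2 = Fintype.card (Fin (m + 1)) →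
      ∃ K : List (alternatingGroup s), K.length ≤ k ∧ Subgroup.closure {x | x ∈ K} = ⊤)
    (Z : List (alternatingGroup (Fin (m + 1)))) (hZ : Subgroup.normalClosure {z | z ∈ Z} = ⊤)
    (L3 : List (Fin (m + 1))) (hL3 : ∀ c ∈ L3, c ≠ o1 ∧ c ≠ o2)
    (h3 : ∀ i j l, [i, j, l].Nodup → ∃ g : alternatingGroup (Fin (m + 1)),
      g.1 o1 = i ∧ g.1 o2 = j ∧ ∃ c ∈ L3, g.1 c = l)
    (L4 : List (Fin (m + 1) × Fin (m + 1))) (hL4 : ∀ c ∈ L4, [o1, o2, c.1, c.2].Nodup)
    (h4 : ∀ i j l l', [i, j, l, l'].Nodup → ∃ g : alternatingGroup (Fin (m + 1)),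
      g.1 o1 = i ∧ g.1 o2 = j ∧ ∃ c ∈ L4, g.1 c.1 = l ∧ g.1 c.2 = l') :
    ∃ g : ι ⊕ Fin 2 → Matrix.SpecialLinearGroup (Fin (m + 1)) F,
      Pr g (r + (2 * k + (9 + L3.length + L4.length) + Z.length)) := by
  obtain ⟨p, hchar⟩ := CharP.exists F
  have hp : Fact p.Prime := ⟨CharP.char_is_prime F p⟩
  obtain ⟨ζ, hζ0, hζ, -⟩ := exists_prim F
  obtain ⟨D⟩ := exists_LD p ζ (subring_top_of_prim hζ)
  have ho' := ho
  simp only [List.nodup_cons, List.mem_cons, List.not_mem_nil, or_false, not_or,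
    List.nodup_nil, and_true, not_false_eq_true] at ho'
  obtain ⟨⟨o12, o13, o14⟩, ⟨o23, o24⟩, o34⟩ := ho'
  have four : ∀ i j l : Fin (m + 1), ∃ x, x ≠ i ∧ x ≠ j ∧ x ≠ l := fun i j l => by
    obtain ⟨x, hx⟩ := exists_not_mem [i, j, l] (by simp; omega)
    exact ⟨x, by simpa [not_or] using hx⟩
  -- even permutations
  have e34 : ∀ i j l l', [i, j, l, l'].Nodup → ∃ g : alternatingGroup (Fin (m + 1)),
      g.1 o1 = i ∧ g.1 o2 = j ∧ ((g.1 o3 = l ∧ g.1 o4 = l') ∨ (g.1 o3 = l' ∧ g.1 o4 = l)) := by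
    intro i j l l' h
    obtain ⟨σ, s1, s2, s3, s4⟩ := exists_perm4 ho h
    obtain ⟨g, rfl | hg⟩ := exists_even σ o34
    · exact ⟨g, s1, s2, Or.inl ⟨s3, s4⟩⟩
    · refine ⟨g, ?_, ?_, Or.inr ⟨?_, ?_⟩⟩ <;>
        simp [hg, swap_apply_of_ne_of_ne, o13, o14, o23, o24, s1, s2, s3, s4]
  have e23 : ∀ i j l, i ≠ j → j ≠ l → i ≠ l → ∃ g : alternatingGroup (Fin (m + 1)),
      g.1 o1 = i ∧ ((g.1 o2 = j ∧ g.1 o3 = l) ∨ (g.1 o2 = l ∧ g.1 o3 = j)) := by
    intro i j l a1 a2 a3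
    obtain ⟨x, x1, x2, x3⟩ := four i j l
    obtain ⟨σ, s1, s2, s3, s4⟩ := exists_perm4 ho (i := i) (j := j) (k := l) (l := x)
      (by simp [a1, a2, a3, x1.symm, x2.symm, x3.symm])
    obtain ⟨g, rfl | hg⟩ := exists_even σ o23
    · exact ⟨g, s1, Or.inl ⟨s2, s3⟩⟩
    · refine ⟨g, ?_, Or.inr ⟨?_, ?_⟩⟩ <;>
        simp [hg, swap_apply_of_ne_of_ne, o12, o13, s1, s2, s3]
  have e13 : ∀ i j l, i ≠ j → j ≠ l → i ≠ l → ∃ g : alternatingGroup (Fin (m + 1)),
      g.1 o2 = j ∧ ((g.1 o1 = i ∧ g.1 o3 = l) ∨ (g.1 o1 = l ∧ g.1 o3 = i)) := by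
    intro i j l a1 a2 a3
    obtain ⟨x, x1, x2, x3⟩ := four i j l
    obtain ⟨σ, s1, s2, s3, s4⟩ := exists_perm4 ho (i := i) (j := j) (k := l) (l := x)
      (by simp [a1, a2, a3, x1.symm, x2.symm, x3.symm])
    obtain ⟨g, rfl | hg⟩ := exists_even σ o13
    · exact ⟨g, s2, Or.inl ⟨s1, s3⟩⟩
    · refine ⟨g, ?_, Or.inr ⟨?_, ?_⟩⟩ <;>
        simp [hg, swap_apply_of_ne_of_ne, Ne.symm o12, o23, s1, s2, s3]
  have e12 : ∀ i j, i ≠ j → ∃ g : alternatingGroup (Fin (m + 1)), g.1 o1 = i ∧ g.1 o2 = j := by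
    intro i j a1
    obtain ⟨x, x1, x2, -⟩ := four i j i
    obtain ⟨g, g1, g2, -⟩ := h3 i j x (by simp [a1, x1.symm, x2.symm])
    exact ⟨g, g1, g2⟩
  choose! sel sel1 sel2 using e12
  choose th th1 th2 th3 using fun i j => four i j i
  obtain ⟨K, K1, K2, K3⟩ := exists_stab_gens o12 hk
  let Φ : Fr (alternatingGroup (Fin (m + 1))) (Fin (m + 1)) :=
    ⟨(alternatingGroup _).subtype, o1, o2, o12, sel, sel1, sel2, K, K2, K3, th, th1, th2⟩
  have hf : ∀ g, Mono (permSL (Fin (m + 1)) F g) (Φ.ρ g) := mono_permSL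
  refine (pr_of_rel hP (by omega) Φ hζ0 hζ (permSL _ F) hf Z hZ
    (relA Φ o3 o4 D L3 L4 gp gu gh) ?_ ?_).imp
      fun g hg => hg.mono (by simp [relA, Φ]; omega)
  · rw [ev_relA]
    have c0 := fun {i j k l} a b c d => ((st (Fin (m + 1)) F).c0 (i := i) (j := j) (k := k) (l := l)
      a b c d 1 1).commutator_eq
    have hc : ∀ {k l} (_ : ep o1 o2 k = ep o1 o2 l), Commute (hd hζ0 k l) (tv o1 o2 1) := by
      intro k l e
      have := hd_conj hζ0 k l o12 1
      rw [e, sub_self, zpow_zero, one_mul, mul_inv_eq_iff_eq_mul] at this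
      exact this
    simp only [relA, List.forall_mem_append, List.forall_mem_cons, List.forall_mem_map,
      hw_hd Φ hf, List.not_mem_nil, IsEmpty.forall_iff, implies_true, and_true]
    simp only [show Φ.o1 = o1 from rfl, show Φ.o2 = o2 from rfl]
    have cw : ∀ {i j}, i ≠ j → Φ.cw (permSL (Fin (m + 1)) F) (tv o1 o2 1) i j = tv i j 1 :=
      fun h => cw_tv Φ hf h 1
    rw [cw o12, cw o13, cw (Ne.symm o23)]
    refine ⟨⟨⟨?_, ?_, ?_, ?_, ?_, ?_, ?_, ?_, ?_⟩, fun c hc => ?_⟩, fun c hc => ?_⟩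
    · rw [← (tv_isAdd o12).nsmul]; simpa using (tv_isAdd (F := F) o12).zero
    · rw [hd_mul, hd_self]
    · exact (hd_comm _ _ _ _ _).commutator_eq
    · rw [hd_mul, hd_mul, hd_self]
    · exact (hc (by simp [ep, Ne.symm o13, Ne.symm o14, Ne.symm o23, Ne.symm o24])).commutator_eq
    · rw [commutatorElement_def, mul_inv_eq_one, mul_inv_rev, mul_assoc (hd hζ0 o1 o3),
        mul_assoc (hd hζ0 o1 o3), ← mul_assoc (hd hζ0 o2 o3 * _), hd_conj hζ0 _ _ o12,
        ← mul_assoc, hd_conj hζ0 _ _ o12, ← mul_assoc, ← zpow_add₀ hζ0]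
      simp [ep, o12, Ne.symm o12, Ne.symm o13, Ne.symm o23]
    · exact c0 o12 o13 o13 (Ne.symm o12)
    · exact c0 o12 (Ne.symm o23) o12 o23
    · rw [D.wd_model (tv_isAdd o12) (fun a _ => cj_hd hζ0 o12 (Ne.symm o13) (Ne.symm o23) a),
        cj_hd hζ0 o12 (Ne.symm o13) (Ne.symm o23), mul_inv_cancel]
    · obtain ⟨c1, c2⟩ := hL3 c hc
      rw [cw c1.symm, cw c2.symm, mul_inv_eq_one]
      have := (st (Fin (m + 1)) F).c1 o12 c2.symm c1.symm 1 1
      rw [mul_one] at this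
      exact this
    · have := hL4 c hc
      simp only [List.nodup_cons, List.mem_cons, List.not_mem_nil, or_false, not_or,
        List.nodup_nil, and_true, not_false_eq_true] at this
      rw [cw this.2.2]
      exact c0 o12 this.2.2 this.1.2.2 this.2.1.1
  · intro J _ fJ u h hu hh hrel
    rw [ev_relA] at hrel
    simp only [relA, List.forall_mem_append, List.forall_mem_cons, List.forall_mem_map,
      List.not_mem_nil, IsEmpty.forall_iff, implies_true, and_true,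
      commutatorElement_eq_one_iff_commute, mul_inv_eq_one] at hrel
    simp only [show Φ.o1 = o1 from rfl, show Φ.o2 = o2 from rfl] at hrel
    obtain ⟨⟨⟨r1, r2, r3, r4, r5, r6, r7, r8, r9⟩, r10⟩, r11⟩ := hrel
    have cU : ∀ (g : alternatingGroup (Fin (m + 1))) {i j}, i ≠ j →
        MulAut.conj (fJ g) (Φ.cw fJ u i j) = Φ.cw fJ u (g.1 i) (g.1 j) :=
      fun g _ _ e => Φ.cw_conj hu g e
    have cH : ∀ (g : alternatingGroup (Fin (m + 1))) i j,
        MulAut.conj (fJ g) (Φ.hw fJ h i j) = Φ.hw fJ h (g.1 i) (g.1 j) :=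
      fun g _ _ => Φ.hw_conj hh g _ _
    generalize hU : Φ.cw fJ u = U at *
    generalize hH : Φ.hw fJ h = H at *
    have inv : ∀ i j, i ≠ j → H j i * H i j = 1 := fun i j e => by
      have := congrArg (MulAut.conj (fJ (sel i j))) r2
      rwa [map_mul, map_one, cH, cH, sel1 i j e, sel2 i j e] at this
    have inv' : ∀ i j, i ≠ j → (H i j)⁻¹ = H j i := fun i j e =>
      (eq_inv_of_mul_eq_one_left (inv i j e)).symm
    have mul : ∀ i j l, i ≠ j → j ≠ l → i ≠ l → H i j * H j l = H i l := fun i j l a1 a2 a3 => by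
      obtain ⟨g, g1, ⟨g2, g3⟩ | ⟨g2, g3⟩⟩ := e23 i j l a1 a2 a3
      all_goals
        have := congrArg (MulAut.conj (fJ g)) r4
        rw [map_mul, map_mul, map_one, cH, cH, cH, g1, g2, g3] at this
      · rw [← inv' l i a3.symm, eq_inv_iff_mul_eq_one, this]
      · rw [← inv' j i a1.symm, ← inv' l j a2.symm, ← mul_inv_rev, inv_eq_iff_mul_eq_one,
          mul_eq_one_comm, ← mul_assoc, this]
    have comm : ∀ i j l, i ≠ j → j ≠ l → i ≠ l → Commute (H i j) (H i l) :=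
      fun i j l a1 a2 a3 => by
      obtain ⟨g, g1, ⟨g2, g3⟩ | ⟨g2, g3⟩⟩ := e23 i j l a1 a2 a3
      all_goals
        have := r3.map (MulAut.conj (fJ g))
        rw [cH, cH, g1, g2, g3] at this
      · exact this
      · exact this.symm
    have c0 : ∀ i j k l, i ≠ j → k ≠ i → k ≠ j → l ≠ i → l ≠ j → k ≠ l →
        Commute (H k l) (U i j) := fun i j k l a1 a2 a3 a4 a5 a6 => by
      obtain ⟨g, g1, g2, ⟨g3, g4⟩ | ⟨g3, g4⟩⟩ := e34 i j k l
        (by simp [a1, a2.symm, a3.symm, a4.symm, a5.symm, a6])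
      all_goals
        have := r5.map (MulAut.conj (fJ g))
        rw [cH, cU g o12, g1, g2, g3, g4] at this
      · exact this
      · rw [← inv' l k a6.symm]; exact this.inv_left
    have c1 : ∀ i j k, i ≠ j → k ≠ i → k ≠ j → Commute (H i k * H j k) (U i j) :=
      fun i j k a1 a2 a3 => by
      obtain ⟨l, a4, a5, a6⟩ := four i j k
      obtain ⟨g, g1, g2, ⟨g3, g4⟩ | ⟨g3, g4⟩⟩ := e34 i j k l
        (by simp [a1, a2.symm, a3.symm, a4.symm, a5.symm, a6.symm])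
      all_goals
        have := r6.map (MulAut.conj (fJ g))
        rw [map_mul, cH, cH, cU g o12, g1, g2, g3] at this
      · exact this
      · have e := c0 i j l k a1 a4 a5 a2 a3 a6
        have e2 : Commute (H l k) (H j l) := by
          rw [← inv' l j a5]; exact (comm l k j a6 a3 a5).inv_right
        rw [← mul i l k a4.symm a6 a2.symm, ← mul j l k a5.symm a6 a3.symm, mul_assoc,
          ← mul_assoc (H l k), e2.eq, mul_assoc, ← mul_assoc]
        exact this.mul_left (e.mul_left e)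
    subst hU hH
    let T := Φ.td fJ u h inv mul comm c0 c1
    refine ⟨T, rfl, rfl, rfl, ?_⟩
    have row := fun {i j k} => T.row4 four (i := i) (j := j) (k := k) fun i j l a1 a2 a3 => by
      obtain ⟨g, g1, ⟨g2, g3⟩ | ⟨g2, g3⟩⟩ := e23 i j l a1 a3 a2
      all_goals
        have := r7.map (MulAut.conj (fJ g))
        rw [cU g o12, cU g o13, g1, g2, g3] at this
      · exact this
      · exact this.symm
    have col := fun {i j k} => T.col4 four (i := i) (j := j) (k := k) fun i j l a1 a2 a3 => by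
      obtain ⟨g, g1, ⟨g2, g3⟩ | ⟨g2, g3⟩⟩ := e13 i j l a1 a2.symm a3
      all_goals
        have := r8.map (MulAut.conj (fJ g))
        rw [cU g o12, cU g (Ne.symm o23), g1, g2, g3] at this
      · exact this
      · exact this.symm
    have prod := fun {i j k} => T.prod4 four (i := i) (j := j) (k := k) fun i j l a1 a2 a3 => by
      obtain ⟨g, g1, g2, c, hc, g3⟩ := h3 i j l (by simp [a1, a2, a3])
      have := congrArg (MulAut.conj (fJ g)) (r10 c hc)
      rwa [map_commutatorElement, cU g o12, cU g (hL3 c hc).1.symm, cU g (hL3 c hc).2.symm,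
        g1, g2, g3] at this
    have far := fun {i j k l} => T.far2 (i := i) (j := j) (k := k) (l := l)
      fun i j k l a1 a2 a3 a4 a5 a6 => by
      obtain ⟨g, g1, g2, c, hc, g3, g4⟩ := h4 i j k l (by simp [a1, a2, a3, a4, a5, a6])
      have e := hL4 c hc
      simp only [List.nodup_cons, List.mem_cons, List.not_mem_nil, or_false, not_or,
        List.nodup_nil, and_true, not_false_eq_true] at e
      have := (r11 c hc).map (MulAut.conj (fJ g))
      rwa [cU g o12, cU g e.2.2, g1, g2, g3, g4] at this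
    refine exists_pre hζ0 hζ T.W (fun i j e => ?_) row col prod far
    have s1 := sel1 i j e
    have s2 := sel2 i j e
    refine T.exists_X hζ0 D e (k := (sel i j).1 o3) ?_ ?_ (T.same_comm row col prod e) ?_ ?_
    · exact fun e' => o13 ((sel i j).1.injective (s1.trans e'.symm))
    · exact fun e' => o23 ((sel i j).1.injective (s2.trans e'.symm))
    · have := congrArg (MulAut.conj (fJ (sel i j))) r1
      rwa [map_pow, map_one, cU _ o12, s1, s2] at this
    · have := congrArg (MulAut.conj (fJ (sel i j))).toMonoidHom r9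
      rw [map_cj, map_wd_cj] at this
      simp only [MulEquiv.toMonoidHom_eq_coe, MonoidHom.coe_coe] at this
      rwa [cU _ o12, cH, s1, s2] at this

theorem gens_two {α : Type} [Fintype α] [DecidableEq α] :
    ∃ K : List (alternatingGroup α), K.length ≤ 2 ∧ Subgroup.closure {x | x ∈ K} = ⊤ := by
  obtain ⟨g, hg⟩ := (H40.Alt.hasPr_alt_two' (Fintype.card α)).1.congr
    (Fintype.equivFin α).symm.altCongrHom
  refine ⟨[g 0, g 1], le_rfl, ?_⟩
  rw [← hg.closure_eq]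
  congr 1; ext x; simp [Fin.exists_fin_two, eq_comm]

theorem gens_one {α : Type} [Fintype α] [DecidableEq α] (h : Fintype.card α = 3) :
    ∃ K : List (alternatingGroup α), K.length ≤ 1 ∧ Subgroup.closure {x | x ∈ K} = ⊤ := by
  have : Nontrivial α := Fintype.one_lt_card_iff_nontrivial.1 (by omega)
  have h2 := two_mul_nat_card_alternatingGroup (α := α)
  rw [Nat.card_perm, Nat.card_eq_fintype_card (α := α), h] at h2
  have : IsCyclic (alternatingGroup α) := isCyclic_of_prime_card (p := 3)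
    (by simp [Nat.factorial] at h2 ⊢; omega)
  obtain ⟨g, hg⟩ := this.exists_generator
  refine ⟨[g], le_rfl, ?_⟩
  rw [eq_top_iff]; intro x _
  simpa [← Subgroup.zpowers_eq_closure] using hg x

theorem gens_zero {α : Type} [Fintype α] [DecidableEq α] (h : Fintype.card α = 2) :
    ∃ K : List (alternatingGroup α), K.length ≤ 0 ∧ Subgroup.closure {x | x ∈ K} = ⊤ := by
  have : Nontrivial α := Fintype.one_lt_card_iff_nontrivial.1 (by omega)
  have h2 := two_mul_nat_card_alternatingGroup (α := α)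
  rw [Nat.card_perm, Nat.card_eq_fintype_card (α := α), h] at h2
  have : Subsingleton (alternatingGroup α) :=
    (Nat.card_eq_one_iff_unique.1 (by simp [Nat.factorial] at h2 ⊢; omega)).1
  exact ⟨[], le_rfl, Subsingleton.elim _ _⟩

theorem exists_normal_gen {α : Type} [Fintype α] [DecidableEq α] (h : 5 ≤ Fintype.card α) :
    ∃ z : alternatingGroup α, Subgroup.normalClosure {x | x ∈ [z]} = ⊤ := by
  have := alternatingGroup.isSimpleGroup (α := α) (by simpa using h)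
  obtain ⟨z, hz⟩ := exists_ne (1 : alternatingGroup α)
  refine ⟨z, (Subgroup.normalClosure_normal.eq_bot_or_eq_top).resolve_left fun e => hz ?_⟩
  have : z ∈ Subgroup.normalClosure {x | x ∈ [z]} := Subgroup.subset_normalClosure (by simp)
  rwa [e, Subgroup.mem_bot] at this

theorem hasPr_SL_four (F : Type*) [Field F] [Finite F] :
    HasPr (Matrix.SpecialLinearGroup (Fin 4) F) 4 18 := by
  have hP := (H40.Alt.pr_carm (ι := Fin 2)).congr
    (Fintype.equivOfCardEq (by simp) : Fin 2 ⊕ Bool ≃ Fin 4).altCongrHom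
  obtain ⟨K, K1, K2⟩ := gens_two (α := Fin 4)
  have ho : [(0 : Fin 4), 1, 2, 3].Nodup := by decide
  refine (pr_An (m := 3) le_rfl F hP ho (k := 0)
    (fun s hs => gens_zero (by simpa using hs)) K
    (by rw [eq_top_iff, ← K2]; exact Subgroup.closure_le_normalClosure)
    [2, 3] (by decide) ?_ [(2, 3), (3, 2)] (by decide) ?_).elim fun g hg => ?_
  · intro i j l h
    obtain ⟨x, hx⟩ := exists_not_mem [i, j, l] (by simp)
    obtain ⟨σ, s1, s2, s3, s4⟩ := exists_perm4 ho (i := i) (j := j) (k := l) (l := x)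
      (by simpa using List.Nodup.concat hx h)
    obtain ⟨g, rfl | hg⟩ := exists_even σ (show (2 : Fin 4) ≠ 3 by decide)
    · exact ⟨g, s1, s2, 2, by simp, s3⟩
    · refine ⟨g, ?_, ?_, 3, by simp, ?_⟩ <;>
        simp [hg, swap_apply_of_ne_of_ne, s1, s2, s3]
  · intro i j l l' h
    obtain ⟨σ, s1, s2, s3, s4⟩ := exists_perm4 ho h
    obtain ⟨g, rfl | hg⟩ := exists_even σ (show (2 : Fin 4) ≠ 3 by decide)
    · exact ⟨g, s1, s2, (2, 3), by simp, s3, s4⟩
    · refine ⟨g, ?_, ?_, (3, 2), by simp, ?_, ?_⟩ <;>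
        simp [hg, swap_apply_of_ne_of_ne, s1, s2, s3, s4]
  · refine hg.hasPr (by simp) ?_
    have : (Finset.univ.filter (fun p : Fin 2 × Fin 2 => p.1 < p.2)).card = 1 := by decide
    simp [this]; omega

theorem hasPr_SL_five (F : Type*) [Field F] [Finite F] :
    HasPr (Matrix.SpecialLinearGroup (Fin 5) F) 5 21 := by
  have hP := (H40.Alt.pr_carm (ι := Fin 3)).congr
    (Fintype.equivOfCardEq (by simp) : Fin 3 ⊕ Bool ≃ Fin 5).altCongrHom
  obtain ⟨z, hz⟩ := exists_normal_gen (α := Fin 5) (by simp)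
  have ho : [(0 : Fin 5), 1, 2, 3].Nodup := by decide
  refine (pr_An (m := 4) (by norm_num) F hP ho (k := 1)
    (fun s hs => gens_one (by simpa using hs)) [z] hz
    [2] (by decide) ?_ [(2, 3), (3, 2)] (by decide) ?_).elim fun g hg => ?_
  rotate_left 2
  · refine hg.hasPr (by simp) ?_
    have : (Finset.univ.filter (fun p : Fin 3 × Fin 3 => p.1 < p.2)).card = 3 := by decide
    simp [this]
  · intro i j l h
    obtain ⟨x, hx⟩ := exists_not_mem [i, j, l] (by simp)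
    obtain ⟨σ, s1, s2, s3, -⟩ := exists_perm4 ho (i := i) (j := j) (k := l) (l := x)
      (by simpa using List.Nodup.concat hx h)
    obtain ⟨g, rfl | hg⟩ := exists_even σ (show (3 : Fin 5) ≠ 4 by decide)
    · exact ⟨g, s1, s2, 2, by simp, s3⟩
    · refine ⟨g, ?_, ?_, 2, by simp, ?_⟩ <;>
        simp [hg, swap_apply_of_ne_of_ne, s1, s2, s3]
  · intro i j l l' h
    obtain ⟨σ, s1, s2, s3, s4⟩ := exists_perm4 ho h
    obtain ⟨g, rfl | hg⟩ := exists_even σ (show (2 : Fin 5) ≠ 3 by decide)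
    · exact ⟨g, s1, s2, (2, 3), by simp, s3, s4⟩
    · refine ⟨g, ?_, ?_, (3, 2), by simp, ?_, ?_⟩ <;>
        simp [hg, swap_apply_of_ne_of_ne, s1, s2, s3, s4]

theorem hasPr_SL_six (F : Type*) [Field F] [Finite F] (n : ℕ) (hn : 6 ≤ n) :
    HasPr (Matrix.SpecialLinearGroup (Fin n) F) 5 23 := by
  obtain ⟨m, rfl⟩ : ∃ m, n = m + 5 + 1 := ⟨n - 6, by omega⟩
  obtain ⟨gP, hP⟩ := (H40.Alt.hasPr_alt _ (by omega) (Fintype.card_fin (m + 5 + 1))).1
  obtain ⟨z, hz⟩ := exists_normal_gen (α := Fin (m + 5 + 1)) (by simp)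
  let o : Fin 6 → Fin (m + 5 + 1) := Fin.castLE (by omega)
  have hinj : ∀ a b, o a = o b ↔ a = b := fun a b => (Fin.castLE_injective _).eq_iff
  have ho : [o 0, o 1, o 2, o 3].Nodup := by simp [hinj]
  have key : ∀ i j l l', [i, j, l, l'].Nodup → ∃ g : alternatingGroup (Fin (m + 5 + 1)),
      g.1 (o 0) = i ∧ g.1 (o 1) = j ∧ g.1 (o 2) = l ∧ g.1 (o 3) = l' := by
    intro i j l l' h
    obtain ⟨σ, s1, s2, s3, s4⟩ := exists_perm4 ho h
    obtain ⟨g, rfl | hg⟩ := exists_even σ (show o 4 ≠ o 5 by simp [hinj])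
    · exact ⟨g, s1, s2, s3, s4⟩
    · refine ⟨g, ?_, ?_, ?_, ?_⟩ <;>
        simp [hg, swap_apply_of_ne_of_ne, hinj, s1, s2, s3, s4]
  refine (pr_An (m := m + 5) (by omega) F hP ho (k := 2)
    (fun s hs => gens_two) [z] hz
    [o 2] (by simp [hinj]) ?_ [(o 2, o 3)] (by simpa using ho) ?_).elim fun g hg => ?_
  rotate_left 2
  · exact hg.hasPr (by simp) (by simp)
  · intro i j l h
    obtain ⟨x, hx⟩ := exists_not_mem [i, j, l] (by simp)
    obtain ⟨g, s1, s2, s3, -⟩ := key i j l x (by simpa using List.Nodup.concat hx h)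
    exact ⟨g, s1, s2, o 2, by simp, s3⟩
  · intro i j l l' h
    obtain ⟨g, s1, s2, s3, s4⟩ := key i j l l' h
    exact ⟨g, s1, s2, (o 2, o 3), by simp, s3, s4⟩

/-- `SL_n(F)`, `n ≥ 4`: five generators, 23 relations. -/
theorem hasPr_SL (F : Type*) [Field F] [Finite F] (n : ℕ) (hn : 4 ≤ n) :
    HasPr (Matrix.SpecialLinearGroup (Fin n) F) 5 23 := by
  rcases hn.lt_or_eq with h | rfl
  · rcases (Nat.succ_le_of_lt h).lt_or_eq with h | rfl
    · exact hasPr_SL_six F n h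
    · exact (hasPr_SL_five F).mono (by norm_num)
  · exact (hasPr_SL_four F).pad (by norm_num) (by norm_num)

theorem isCyclic_center_SL (F : Type*) [Field F] (n : ℕ) [NeZero n] :
    IsCyclic (Subgroup.center (Matrix.SpecialLinearGroup (Fin n) F)) := by
  have e := Matrix.SpecialLinearGroup.center_equiv_rootsOfUnity' (R := F) (n := Fin n) 0
  have : NeZero (Fintype.card (Fin n)) := ⟨by simpa using NeZero.ne n⟩
  exact isCyclic_of_surjective e.symm e.symm.surjective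

theorem HasPr.psl {F : Type*} [Field F] {n : ℕ} [NeZero n] {d r : ℕ}
    (h : HasPr (Matrix.SpecialLinearGroup (Fin n) F) d r) :
    HasPr (Matrix.ProjectiveSpecialLinearGroup (Fin n) F) d (r + 1) :=
  h.quot_cyclic _ (isCyclic_center_SL F n)

end H77.Pres
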