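import Cfsg.Agent.Lib.Pres.Lin
import Cfsg.Agent.Lib.Stein.SLPres

/-!
# Root elements and torus elements in an abstract group (type `A`)

`TD Ω J`: elements `U i j` (think `x_ij(1)`) and `H i j` (think `diag(ζ at i, ζ⁻¹ at j)`).
`T.W i j m` is the conjugate of `U i j` which plays the role of `x_ij(ζ ^ m)`.
-/

set_option autoImplicit false

open scoped commutatorElement

namespace H77.Pres

open H63.St

/-- Torus data. -/
structure TD (Ω J : Type*) [Group J] where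
  /-- root elements -/
  U : Ω → Ω → J
  /-- torus elements -/
  H : Ω → Ω → J
  /-- a third index -/
  th : Ω → Ω → Ω
  th1 : ∀ i j, th i j ≠ i
  th2 : ∀ i j, th i j ≠ j
  mul : ∀ i j k, H i j * H j k = H i k
  comm : ∀ i j k l, Commute (H i j) (H k l)
  c0 : ∀ i j k l, i ≠ j → k ≠ i → k ≠ j → l ≠ i → l ≠ j → Commute (H k l) (U i j)
  c1 : ∀ i j k, i ≠ j → k ≠ i → k ≠ j → Commute (H i k * H j k) (U i j)

/-- The weight of the index `k` on the root `(i, j)`. -/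
def ep {Ω : Type*} [DecidableEq Ω] (i j k : Ω) : ℤ :=
  (if k = i then 1 else 0) - (if k = j then 1 else 0)

namespace TD

variable {Ω J : Type*} [Group J] (T : TD Ω J)

/-- The analogue of `x_ij(ζ ^ m)`. -/
def W (i j : Ω) (m : ℤ) : J := T.H i (T.th i j) ^ m * T.U i j * (T.H i (T.th i j) ^ m)⁻¹

@[simp] theorem W_zero (i j : Ω) : T.W i j 0 = T.U i j := by simp [W]

theorem H_self (i : Ω) : T.H i i = 1 := mul_eq_left.mp (T.mul i i i)

theorem H_inv (i j : Ω) : (T.H i j)⁻¹ = T.H j i := by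
  rw [inv_eq_iff_mul_eq_one, T.mul, T.H_self]

variable [DecidableEq Ω]

theorem aux {i j : Ω} (h : i ≠ j) (k : Ω) :
    Commute (T.H k (T.th i j) * (T.H i (T.th i j) ^ ep i j k)⁻¹) (T.U i j) := by
  by_cases h1 : k = i
  · subst h1; simp [ep, h]
  by_cases h2 : k = j
  · subst h2
    have := T.c1 i k _ h (T.th1 i k) (T.th2 i k)
    rw [(T.comm _ _ _ _).eq] at this
    simpa [ep, h1] using this
  · simpa [ep, h1, h2] using T.c0 i j k _ h h1 h2 (T.th1 i j) (T.th2 i j)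

omit [DecidableEq Ω] in
theorem shift_aux {i j : Ω} {g : J} {n : ℤ} (hg : Commute g (T.H i (T.th i j)))
    (h : Commute (g * (T.H i (T.th i j) ^ n)⁻¹) (T.U i j)) (m : ℤ) :
    g * T.W i j m * g⁻¹ = T.W i j (m + n) := by
  simp only [W]
  generalize T.H i (T.th i j) = t at *
  have h1 : g * T.U i j * g⁻¹ = t ^ n * T.U i j * (t ^ n)⁻¹ := by
    have e : g = t ^ n * (g * (t ^ n)⁻¹) := by
      rw [← mul_assoc, ← (hg.zpow_right n).eq]; group
    rw [e, mul_assoc (t ^ n), h.eq]; group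
  have h2 := (hg.zpow_right m).eq
  calc _ = (g * t ^ m) * T.U i j * (g * t ^ m)⁻¹ := by group
    _ = t ^ m * (g * T.U i j * g⁻¹) * (t ^ m)⁻¹ := by rw [h2]; group
    _ = _ := by rw [h1]; group

theorem shift {i j : Ω} (h : i ≠ j) (k l : Ω) (m : ℤ) :
    T.H k l * T.W i j m * (T.H k l)⁻¹ = T.W i j (m + (ep i j k - ep i j l)) := by
  refine T.shift_aux (T.comm _ _ _ _) ?_ m
  have := (T.aux h k).mul_left (T.aux h l).inv_left
  refine (congrArg (fun x => Commute x (T.U i j)) ?_).mp this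
  symm
  set t := T.H i (T.th i j) with ht
  rw [← T.mul k (T.th i j) l, ← T.H_inv l, zpow_sub]
  have e : Commute (T.H l (T.th i j))⁻¹ (t ^ ep i j l * (t ^ ep i j k)⁻¹) :=
    (((T.comm _ _ _ _).zpow_right _).mul_right ((T.comm _ _ _ _).zpow_right _).inv_right).inv_left
  have e2 : Commute (t ^ ep i j l) (t ^ ep i j k)⁻¹ :=
    ((Commute.refl t).zpow_zpow _ _).inv_right
  rw [mul_inv_rev, inv_inv, mul_assoc, e.eq, e2.eq]; group

theorem shift_zpow {i j : Ω} (h : i ≠ j) (k l : Ω) (n m : ℤ) :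
    T.H k l ^ n * T.W i j m * (T.H k l ^ n)⁻¹ = T.W i j (m + n * (ep i j k - ep i j l)) := by
  induction n using Int.induction_on generalizing m with
  | zero => simp
  | succ n ih =>
    rw [zpow_add_one, mul_inv_rev, mul_assoc (T.H k l ^ (n : ℤ)), mul_assoc (T.H k l ^ (n : ℤ)),
      ← mul_assoc (T.H k l * _), T.shift h, ← mul_assoc, ih]
    congr 1; ring
  | pred n ih =>
    have := T.shift h l k m
    rw [← T.H_inv k l] at this
    rw [zpow_sub_one, mul_inv_rev, mul_assoc (T.H k l ^ (-n : ℤ)), mul_assoc (T.H k l ^ (-n : ℤ)),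
      ← mul_assoc ((T.H k l)⁻¹ * _), this, ← mul_assoc, ih]
    congr 1; ring

theorem W_eq {i j k : Ω} (h : i ≠ j) (h1 : k ≠ i) (h2 : k ≠ j) (m : ℤ) :
    T.H i k ^ m * T.U i j * (T.H i k ^ m)⁻¹ = T.W i j m := by
  have := T.shift_zpow h i k m 0
  simpa [ep, h, h1, h2] using this

theorem cj_eq {i j k : Ω} (h : i ≠ j) (h1 : k ≠ i) (h2 : k ≠ j) (m : ℕ) :
    cj (T.H i k) (T.U i j) m = T.W i j m := by
  rw [← T.W_eq h h1 h2, zpow_natCast, cj]

/-- Conjugation by two torus elements. -/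
theorem shift2 {i j : Ω} (h : i ≠ j) (k l k' l' : Ω) (n n' m : ℤ) :
    MulAut.conj (T.H k l ^ n * T.H k' l' ^ n') (T.W i j m) =
      T.W i j (m + n' * (ep i j k' - ep i j l') + n * (ep i j k - ep i j l)) := by
  rw [map_mul, MulAut.mul_apply, MulAut.conj_apply, MulAut.conj_apply, T.shift_zpow h,
    T.shift_zpow h]

section Four

variable (four : ∀ i j k : Ω, ∃ l, l ≠ i ∧ l ≠ j ∧ l ≠ k)
include four

theorem row4 (ra : ∀ i j k, i ≠ j → i ≠ k → j ≠ k → Commute (T.U i j) (T.U i k))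
    {i j k : Ω} (h1 : i ≠ j) (h2 : i ≠ k) (h3 : j ≠ k) (a b : ℤ) :
    Commute (T.W i j a) (T.W i k b) := by
  obtain ⟨l, l1, l2, l3⟩ := four i j k
  have := (ra i j k h1 h2 h3).map (MulAut.conj (T.H l j ^ a * T.H l k ^ b))
  rw [← T.W_zero, ← T.W_zero, T.shift2 h1, T.shift2 h2] at this
  simpa [ep, l1, l2, l3, h1.symm, h2.symm, h3, h3.symm] using this

theorem col4 (rb : ∀ i j k, i ≠ j → k ≠ j → i ≠ k → Commute (T.U i j) (T.U k j))
    {i j k : Ω} (h1 : i ≠ j) (h2 : k ≠ j) (h3 : i ≠ k) (a b : ℤ) :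
    Commute (T.W i j a) (T.W k j b) := by
  obtain ⟨l, l1, l2, l3⟩ := four i j k
  have := (rb i j k h1 h2 h3).map (MulAut.conj (T.H i l ^ a * T.H k l ^ b))
  rw [← T.W_zero, ← T.W_zero, T.shift2 h1, T.shift2 h2] at this
  simpa [ep, l1, l2, l3, h1, h2, h3, h3.symm] using this

theorem prod4 (rc : ∀ i j k, i ≠ j → j ≠ k → i ≠ k → ⁅T.U i j, T.U j k⁆ = T.U i k)
    {i j k : Ω} (h1 : i ≠ j) (h2 : j ≠ k) (h3 : i ≠ k) (a b : ℤ) :
    ⁅T.W i j a, T.W j k b⁆ = T.W i k (a + b) := by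
  obtain ⟨l, l1, l2, l3⟩ := four i j k
  have := congrArg (MulAut.conj (T.H i l ^ a * T.H l k ^ b)) (rc i j k h1 h2 h3)
  rw [map_commutatorElement, ← T.W_zero, ← T.W_zero, ← T.W_zero, T.shift2 h1, T.shift2 h2,
    T.shift2 h3] at this
  simpa [ep, l1, l2, l3, h1, h2, h3, h3.symm, h2.symm, add_comm] using this

end Four

theorem far2 (rd : ∀ i j k l, i ≠ j → k ≠ l → i ≠ k → i ≠ l → j ≠ k → j ≠ l →
      Commute (T.U i j) (T.U k l))
    {i j k l : Ω} (h1 : i ≠ j) (h2 : k ≠ l) (h3 : i ≠ k) (h4 : i ≠ l) (h5 : j ≠ k) (h6 : j ≠ l)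
    (a b : ℤ) : Commute (T.W i j (b + 2 * a)) (T.W k l b) := by
  have := (rd i j k l h1 h2 h3 h4 h5 h6).map (MulAut.conj (T.H i k ^ a * T.H i l ^ (a + b)))
  rw [← T.W_zero, ← T.W_zero, T.shift2 h1, T.shift2 h2] at this
  simp only [ep, h1, h2, h3, h4, h5.symm, h6.symm, h3.symm, h4.symm, h2.symm, if_true, if_false]
    at this
  convert this using 2 <;> ring

omit [DecidableEq Ω] in
/-- Two elements of one root group commute. -/
theorem same_comm
    (row : ∀ {i j k : Ω}, i ≠ j → i ≠ k → j ≠ k → ∀ a b : ℤ, Commute (T.W i j a) (T.W i k b))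
    (col : ∀ {i j k : Ω}, i ≠ j → k ≠ j → i ≠ k → ∀ a b : ℤ, Commute (T.W i j a) (T.W k j b))
    (prod : ∀ {i j k : Ω}, i ≠ j → j ≠ k → i ≠ k → ∀ a b : ℤ,
      ⁅T.W i j a, T.W j k b⁆ = T.W i k (a + b))
    {i k : Ω} (h : i ≠ k) (a b : ℤ) : Commute (T.W i k a) (T.W i k b) := by
  have h1 := (T.th1 i k).symm
  have h2 := T.th2 i k
  have e := prod h1 h2 h b 0
  rw [add_zero] at e
  rw [← e, commutatorElement_def]
  have e1 := row h h1 h2.symm a b
  have e2 := col h h2 h1 a 0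
  exact ((e1.mul_right e2).mul_right e1.inv_right).mul_right e2.inv_right

/-- The module trick for one root. -/
theorem exists_X {p : ℕ} [NeZero p] {F : Type*} [Field F] {ζ : F} (hζ : ζ ≠ 0) (D : LD p ζ)
    {i j k : Ω} (h : i ≠ j) (h1 : k ≠ i) (h2 : k ≠ j)
    (hc : ∀ a b, Commute (T.W i j a) (T.W i j b)) (hp : T.U i j ^ p = 1)
    (hrel : cj (T.H i k) (T.U i j) D.d = D.wd (cj (T.H i k) (T.U i j)) (ζ ^ D.d)) :
    ∃ X : F → J, IsAdd X ∧ ∀ m : ℤ, X (ζ ^ m) = T.W i j m := by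
  obtain ⟨a1, a2, a3⟩ := D.main_cj (fun a _ b _ => by
    rw [T.cj_eq h h1 h2, T.cj_eq h h1 h2]; exact hc _ _) hp hrel
  refine ⟨_, a1, fun m => ?_⟩
  induction m using Int.induction_on with
  | zero => simpa using a3 0
  | succ m ih =>
    rw [zpow_add_one₀ hζ, mul_comm, ← a2, ih, T.shift h]
    simp [ep, h, h1, h2]
  | pred m ih =>
    have e := a2 (ζ ^ (-(m : ℤ) - 1))
    rw [mul_comm ζ, ← zpow_add_one₀ hζ, sub_add_cancel, ih] at e
    have e2 := T.shift h i k (-(m : ℤ) - 1)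
    simp only [ep, h, h1, h2, if_true, if_false, sub_zero, sub_add_cancel] at e2
    rw [← e2] at e
    simpa using e

end TD

/-- Steinberg elements from relations between powers of a primitive root. -/
theorem exists_pre {Ω J : Type*} [Group J] {F : Type*} [Field F] [Finite F] {ζ : F} (hζ0 : ζ ≠ 0)
    (hζ : ∀ a : F, a ≠ 0 → ∃ m : ℕ, ζ ^ m = a) (W : Ω → Ω → ℤ → J)
    (hX : ∀ i j, i ≠ j → ∃ X : F → J, IsAdd X ∧ ∀ m : ℤ, X (ζ ^ m) = W i j m)
    (row : ∀ {i j k : Ω}, i ≠ j → i ≠ k → j ≠ k → ∀ a b : ℤ, Commute (W i j a) (W i k b))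
    (col : ∀ {i j k : Ω}, i ≠ j → k ≠ j → i ≠ k → ∀ a b : ℤ, Commute (W i j a) (W k j b))
    (prod : ∀ {i j k : Ω}, i ≠ j → j ≠ k → i ≠ k → ∀ a b : ℤ,
      ⁅W i j a, W j k b⁆ = W i k (a + b))
    (far : ∀ {i j k l : Ω}, i ≠ j → k ≠ l → i ≠ k → i ≠ l → j ≠ k → j ≠ l → ∀ a b : ℤ,
      Commute (W i j (b + 2 * a)) (W k l b)) :
    ∃ S : PreStA Ω F J, ∀ i j, i ≠ j → ∀ m : ℤ, S.x i j (ζ ^ m) = W i j m := by
  classical
  choose! X hX1 hX2 using hX
  have cases : ∀ a : F, a = 0 ∨ ∃ m : ℤ, ζ ^ m = a := fun a => by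
    by_cases ha : a = 0
    · exact Or.inl ha
    · obtain ⟨m, hm⟩ := hζ a ha; exact Or.inr ⟨m, by rw [zpow_natCast, hm]⟩
  have span : ∀ b : ℤ, AddSubgroup.closure {x : F | ∃ a : ℤ, ζ ^ (b + 2 * a) = x} = ⊤ := by
    intro b
    have hsq : ∀ y : F, ζ ^ b * y ^ 2 ∈
        AddSubgroup.closure {x : F | ∃ a : ℤ, ζ ^ (b + 2 * a) = x} := fun y => by
      rcases cases y with rfl | ⟨m, rfl⟩
      · simp
      · refine AddSubgroup.subset_closure ⟨m, ?_⟩
        rw [zpow_add₀ hζ0, mul_comm 2 m, zpow_mul, zpow_ofNat]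
    rw [eq_top_iff]; intro x _
    obtain ⟨y, rfl⟩ : ∃ y, x = ζ ^ b * y :=
      ⟨(ζ ^ b)⁻¹ * x, by rw [mul_inv_cancel_left₀ (zpow_ne_zero _ hζ0)]⟩
    by_cases h2 : (2 : F) = 0
    · have : CharP F 2 := CharTwo.of_one_ne_zero_of_two_eq_zero one_ne_zero h2
      obtain ⟨z, rfl⟩ := FiniteField.isSquare_of_char_two (ringChar.eq F 2) y
      rw [← sq]; exact hsq z
    · have e : ζ ^ b * y = ζ ^ b * ((y + 1) / 2) ^ 2 - ζ ^ b * ((y - 1) / 2) ^ 2 := by
        field_simp; ring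
      rw [e]; exact AddSubgroup.sub_mem _ (hsq _) (hsq _)
  refine ⟨⟨X, fun h a b => (hX1 _ _ h a b).symm, fun {i j k l} h1 h2 h3 h4 t u => ?_,
    fun {i j l} h1 h2 h3 t u => ?_⟩, hX2⟩
  · rcases cases u with rfl | ⟨b, rfl⟩
    · rw [(hX1 _ _ h2).zero]; exact Commute.one_right _
    by_cases e1 : i = k
    · subst e1
      by_cases e2 : j = l
      · subst e2; exact (hX1 _ _ h1).comm _ _
      · rcases cases t with rfl | ⟨a, rfl⟩
        · rw [(hX1 _ _ h1).zero]; exact Commute.one_left _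
        rw [hX2 _ _ h1, hX2 _ _ h2]; exact row h1 h2 e2 a b
    by_cases e2 : j = l
    · subst e2
      rcases cases t with rfl | ⟨a, rfl⟩
      · rw [(hX1 _ _ h1).zero]; exact Commute.one_left _
      rw [hX2 _ _ h1, hX2 _ _ h2]; exact col h1 h2 e1 a b
    · refine ((hX1 _ _ h1).commute (span b) ?_ t).symm
      rintro _ ⟨a, rfl⟩
      rw [hX2 _ _ h1, hX2 _ _ h2]; exact (far h1 h2 e1 h3 h4 e2 a b).symm
  · rcases cases t with rfl | ⟨a, rfl⟩
    · rw [(hX1 _ _ h1).zero, zero_mul, (hX1 _ _ h3).zero]; simp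
    rcases cases u with rfl | ⟨b, rfl⟩
    · rw [(hX1 _ _ h2).zero, mul_zero, (hX1 _ _ h3).zero]; simp
    rw [← zpow_add₀ hζ0, hX2 _ _ h1, hX2 _ _ h2, hX2 _ _ h3]; exact prod h1 h2 h3 a b

end H77.Pres
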